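import Cfsg.Agent.Lib.Bender.OddTransitive

/-!
# The prime of a maximal odd transitive subgroup, with its centralizing property

`GoodData U q`: the normalizer of a Sylow `q`-subgroup of `U` lies in `U`, `Ω₁Z(O_q(U))` centralizes
the other cores of the conjugates of `U` which contain it suitably, and `Z(J(T))` is normal when
`O_q'(U) = 1`.
-/

set_option autoImplicit false
set_option linter.unusedSectionVars false
set_option linter.style.haveILetI false

open Subgroup
open scoped commutatorElement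
open CfsgLib.CFun (core coCore isPGroup_core core_le le_normalizer_core coCore_le le_normalizer_coCore
  not_dvd_coCore core_le_coCore)
open CfsgLib.Fusion (conjBy mem_conjBy conjBy_mono conjBy_eq_iff card_conjBy conjBy_centralizer)
open CfsgLib.Coprime (conj_mem_of_le_normalizer IsSylowIn)

namespace CfsgLib.Bender.Bad

universe u

variable {X : Type u} [Group X] [Finite X] {U : Subgroup X}

/-- The properties of the prime. -/
structure GoodData (U : Subgroup X) (q : ℕ) : Prop where
  core_ne : core U q ≠ ⊥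
  cent : ∀ g : X, az U q ≤ conjBy g U → conjBy g (az U q) ≤ U → ∀ k : ℕ, k.Prime → k ≠ q →
    core U k ≠ ⊥ → az U q ≤ centralizer (conjBy g (core U k) : Set X)
  sylow_le : ∀ T : Subgroup X, IsSylowIn q T U → normalizer (T : Set X) ≤ U
  single : coCore U q = ⊥ → ∀ T : Subgroup X, IsSylowIn q T U →
    Cfsg.centerThompsonAOf T ≠ ⊥ ∧ Cfsg.centerThompsonAOf T ≤ U ∧
      U ≤ normalizer (Cfsg.centerThompsonAOf T : Set X)

theorem dvd_card_of_core {q : ℕ} [Fact q.Prime] (h : core U q ≠ ⊥) : q ∣ Nat.card U :=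
  (CfsgLib.CFun.dvd_of_core_ne_bot h).trans (card_dvd_of_le CfsgLib.CFun.fittingOf_le)

/-- `Z(J(T))` is normal when `O_q'(U) = 1`. -/
theorem zj_normal (h : MaxOdd U) {q : ℕ} [hq : Fact q.Prime] (hcore : core U q ≠ ⊥)
    (hco : coCore U q = ⊥) {T : Subgroup X} (hT : IsSylowIn q T U) :
    Cfsg.centerThompsonAOf T ≠ ⊥ ∧ Cfsg.centerThompsonAOf T ≤ U ∧
      U ≤ normalizer (Cfsg.centerThompsonAOf T : Set X) := by
  have hK : Cfsg.pPrimeCore q U = ⊥ := (map_eq_bot_iff_of_injective _ U.subtype_injective).1 hco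
  haveI := h.solvable
  have hq2 : q ≠ 2 := fun e => h.odd.not_two_dvd_nat (e ▸ dvd_card_of_core hcore)
  obtain ⟨hn, -⟩ := CfsgLib.CFun.zjA_factor hq2 h.odd hT.toSylow
  rw [hK, bot_sup_eq] at hn
  set Z : Subgroup X := Cfsg.centerThompsonAOf T with hZdef
  have hZmap : (Cfsg.centerThompsonAOf (hT.toSylow : Subgroup U)).map U.subtype = Z := by
    rw [hZdef, CfsgLib.PGroup.ZJFailure.map_centerThompsonAOf_injective _ U.subtype_injective,
      hT.map_toSylow]
  have hTne : T ≠ ⊥ := fun e => by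
    have h1 := hT.2
    rw [e, Subgroup.card_bot] at h1
    have h2 := hq.out.factorization_pos_of_dvd Nat.card_pos.ne' (dvd_card_of_core hcore)
    exact absurd h1.symm (Nat.one_lt_pow h2.ne' hq.out.one_lt).ne'
  refine ⟨fun e => ?_, hZmap ▸ map_subtype_le _, fun x hx => ?_⟩
  · haveI : Nontrivial T := (nontrivial_iff_ne_bot T).2 hTne
    haveI := hT.isPGroup.center_nontrivial
    obtain ⟨⟨z, hz⟩, hz1⟩ := exists_ne (1 : center T)
    refine hz1 (Subtype.ext (Subtype.ext (mem_bot.1 (e ▸ CfsgLib.PushUp.center_le_Jz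
      (S := T) ⟨z.2, mem_centralizer_iff.2 fun y hy => ?_⟩))))
    exact congrArg Subtype.val (mem_center_iff.1 hz ⟨y, hy⟩)
  · rw [← hZmap]
    exact le_normalizer_map U.subtype ⟨⟨x, hx⟩,
      (normalizer_eq_top (Cfsg.centerThompsonAOf (hT.toSylow : Subgroup U))).symm ▸ mem_top _, rfl⟩

theorem GoodData.of_cent (h : MaxOdd U) {q : ℕ} [hq : Fact q.Prime] (hcore : core U q ≠ ⊥)
    (hc : ∀ g : X, az U q ≤ conjBy g U → conjBy g (az U q) ≤ U → ∀ k : ℕ, k.Prime → k ≠ q →
      core U k ≠ ⊥ → az U q ≤ centralizer (conjBy g (core U k) : Set X)) : GoodData U q := by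
  refine ⟨hcore, hc, fun T hT => ?_, fun hco T hT => zj_normal h hcore hco hT⟩
  by_cases hco : coCore U q = ⊥
  · obtain ⟨hne, hle, hn⟩ := zj_normal h hcore hco hT
    exact (CfsgLib.PushUp.normalizer_le_Jz).trans (h.normalizer_eq hne hle hn).le
  · have hPT : az U q ≤ T := by
      have h1 := map_mono (f := U.subtype) (CfsgLib.Coprime.pCore_le_sylow (p := q) hT.toSylow)
      rw [hT.map_toSylow] at h1
      exact az_le_core.trans h1
    refine h.normalizer_le_of_centralizing hcore hco hT fun y hy =>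
      hc y (hPT.trans ((conjBy_eq_iff.2 hy).symm.le.trans (conjBy_mono hT.1))) ?_
    exact ((conjBy_mono hPT).trans (conjBy_eq_iff.2 hy).le).trans hT.1

/-- The prime exists. -/
theorem exists_goodData (h : MaxOdd U) : ∃ q : ℕ, q.Prime ∧ q ≠ 2 ∧ GoodData U q := by
  classical
  have hne2 : ∀ q : ℕ, [Fact q.Prime] → core U q ≠ ⊥ → q ≠ 2 := fun q _ hc e =>
    h.odd.not_two_dvd_nat (e ▸ dvd_card_of_core hc)
  by_cases hsingle : ∃ r : ℕ, r.Prime ∧ core U r ≠ ⊥ ∧ coCore U r = ⊥
  · obtain ⟨r, hr, hcore, hco⟩ := hsingle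
    haveI : Fact r.Prime := ⟨hr⟩
    refine ⟨r, hr, hne2 r hcore, GoodData.of_cent h hcore fun g _ _ k hk hne hkcore => absurd ?_ hkcore⟩
    haveI : Fact k.Prime := ⟨hk⟩
    exact le_bot_iff.1 ((core_le_coCore hne).trans hco.le)
  have hdvd : ∀ k : ℕ, k.Prime → core U k ≠ ⊥ → k ∈ (Nat.card U).primeFactors := fun k hk hne => by
    haveI : Fact k.Prime := ⟨hk⟩
    exact Nat.mem_primeFactors.2 ⟨hk, dvd_card_of_core hne, Nat.card_pos.ne'⟩
  set π := (Nat.card U).primeFactors.filter fun k => core U k ≠ ⊥ with hπ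
  have hπne : π.Nonempty := by
    obtain ⟨r, hr, hne⟩ := h.exists_core_ne_bot
    exact ⟨r, Finset.mem_filter.2 ⟨hdvd r hr hne, hne⟩⟩
  have hnormU : ∀ (y : X) (k : ℕ), conjBy y U ≤ normalizer (conjBy y (core U k) : Set X) :=
    fun y k => by
      rw [← CfsgLib.Fusion.conjBy_normalizer]
      exact conjBy_mono le_normalizer_core
  by_cases hnc : ∃ q ∈ π, q ^ 2 ≤ Nat.card (az U q)
  · obtain ⟨q, hqπ, h2⟩ := hnc
    obtain ⟨hq1, hcore⟩ := Finset.mem_filter.1 hqπ
    haveI : Fact q.Prime := ⟨Nat.prime_of_mem_primeFactors hq1⟩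
    refine ⟨q, Fact.out, hne2 q hcore, GoodData.of_cent h hcore fun g hg _ k hk hne hkcore => ?_⟩
    haveI : Fact k.Prime := ⟨hk⟩
    exact h.az_le_centralizer_of_noncyclic hcore hkcore hne h2 (isPGroup_core.map _)
      (hg.trans (hnormU g k))
  push Not at hnc
  set q := π.max' hπne with hqdef
  have hqπ : q ∈ π := π.max'_mem hπne
  obtain ⟨hq1, hcore⟩ := Finset.mem_filter.1 hqπ
  haveI hqf : Fact q.Prime := ⟨Nat.prime_of_mem_primeFactors hq1⟩
  refine ⟨q, hqf.out, hne2 q hcore, GoodData.of_cent h hcore fun g hg hgU k hk hne hkcore => ?_⟩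
  haveI : Fact k.Prime := ⟨hk⟩
  have hkπ : k ∈ π := Finset.mem_filter.2 ⟨hdvd k hk hkcore, hkcore⟩
  have hkq : k < q := lt_of_le_of_ne (π.le_max' k hkπ) hne
  have hkcard : Nat.card (az U k) = k := by
    obtain ⟨i, hi⟩ := IsPGroup.iff_card.1 (isPGroup_az (M := U) (q := k))
    have h2 := hnc k hkπ
    rw [hi] at h2
    rcases i with _ | _ | i
    · exact absurd (card_eq_one.1 (by rw [hi, pow_zero])) (az_ne_bot hkcore)
    · rw [hi, pow_one]
    · exact absurd (Nat.pow_le_pow_right hk.pos (by omega)) h2.not_ge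
  set A' := conjBy g (az U q) with hA'
  have hA'p : IsPGroup q A' := isPGroup_az.map _
  have hA'k : A' ≤ normalizer (az U k : Set X) := hgU.trans le_normalizer_az
  have hcent : az U k ≤ centralizer (A' : Set X) := by
    letI : MulAction A' (az U k) :=
      { smul := fun b x => ⟨(b : X) * x * (b : X)⁻¹, conj_mem_of_le_normalizer hA'k b.2 x.2⟩
        one_smul := fun x => Subtype.ext (show (1 : X) * x * (1 : X)⁻¹ = x by group)
        mul_smul := fun b c x => Subtype.ext
          (show (b : X) * c * x * ((b : X) * c)⁻¹ = b * (c * x * (c : X)⁻¹) * (b : X)⁻¹ by group) }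
    have hmod := hA'p.card_modEq_card_fixedPoints (az U k)
    rw [hkcard] at hmod
    have hle : Nat.card (MulAction.fixedPoints A' (az U k)) ≤ k :=
      (Finite.card_subtype_le _).trans hkcard.le
    have heq : Nat.card (MulAction.fixedPoints A' (az U k)) = Nat.card (az U k) := by
      rw [hkcard]
      exact (Nat.ModEq.eq_of_lt_of_lt hmod hkq (hle.trans_lt hkq)).symm
    have huniv : (MulAction.fixedPoints A' (az U k)) = Set.univ := Set.eq_univ_of_forall fun x => by
      by_contra hx
      exact absurd heq (Finite.card_subtype_lt hx).ne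
    intro x hx
    rw [mem_centralizer_iff]
    intro b hb
    have h1 : (⟨b, hb⟩ : A') • (⟨x, hx⟩ : az U k) = ⟨x, hx⟩ :=
      (Set.eq_univ_iff_forall.1 huniv ⟨x, hx⟩) ⟨b, hb⟩
    exact mul_inv_eq_iff_eq_mul.1 (congrArg Subtype.val h1)
  have hkU : az U k ≤ normalizer (conjBy g (core U k) : Set X) := by
    refine (hcent.trans ?_).trans (hnormU g k)
    rw [hA', ← conjBy_centralizer]
    exact conjBy_mono (h.centralizer_az_le hcore)
  exact h.az_le_centralizer (Ne.symm hne) hkcore (isPGroup_core.map _) hkU (hg.trans (hnormU g k))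

/-- The conjugate of `az` by `g⁻¹` centralizes `O_q'(U)`, when it lies in `U`. -/
theorem GoodData.le_centralizer_coCore {q : ℕ} [hq : Fact q.Prime] (hg : GoodData U q) (h : MaxOdd U)
    {g : X} (hAg : az U q ≤ conjBy g U) (hgA : conjBy g (az U q) ≤ U)
    (hBM : conjBy g⁻¹ (az U q) ≤ U) :
    conjBy g⁻¹ (az U q) ≤ centralizer (coCore U q : Set X) := by
  haveI := h.solvable
  set O := coCore U q with hOdef
  set P := core U q with hPdef
  set B := conjBy g⁻¹ (az U q) with hBdef
  have hBq : IsPGroup q B := isPGroup_az.map _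
  have hBU : ∀ k : ℕ, k.Prime → k ≠ q → B ≤ centralizer (core U k : Set X) := fun k hk hne => by
    by_cases hb : core U k = ⊥
    · intro x _
      exact mem_centralizer_iff.2 fun z hz => by rw [mem_bot.1 (hb.le hz), one_mul, mul_one]
    · have h1 : B ≤ conjBy g⁻¹ (centralizer (conjBy g (core U k) : Set X)) :=
        conjBy_mono (hg.cent g hAg hgA k hk hne hb)
      rwa [conjBy_centralizer, CfsgLib.Fusion.conjBy_inv_conjBy] at h1
  have hBO : B ≤ normalizer (O : Set X) := hBM.trans le_normalizer_coCore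
  have hX1 : ⁅O, B⁆ ≤ O := le_normalizer_iff_commutator_le_left.1 hBO
  have hX1F : ⁅O, B⁆ ≤ Cfsg.fittingOf U := by
    refine (le_inf (hX1.trans coCore_le) ?_).trans CfsgLib.CFun.centralizer_fittingOf_le
    rw [le_centralizer_iff]
    refine CfsgLib.CFun.fittingOf_le_of_cores fun k hk => le_centralizer_iff.1 ?_
    haveI : Fact k.Prime := ⟨hk⟩
    rcases eq_or_ne k q with rfl | hne
    · exact hX1.trans (CfsgLib.CFun.le_centralizer_of_inf_eq_bot (coCore_le.trans le_normalizer_core)
        (core_le.trans le_normalizer_coCore) (by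
          rw [inf_comm]; exact CfsgLib.CFun.inf_eq_bot_of_isPGroup isPGroup_core not_dvd_coCore))
    · rw [← commutator_eq_bot_iff_le_centralizer]
      refine commutator_commutator_eq_bot_of_rotate ?_ ?_
      · rw [commutator_eq_bot_iff_le_centralizer.2 (hBU k hk hne), commutator_bot_left]
      · refine le_bot_iff.1 ((commutator_mono ?_ le_rfl).trans
          (commutator_eq_bot_iff_le_centralizer.2 (le_centralizer_iff.1 (hBU k hk hne))).le)
        exact le_normalizer_iff_commutator_le_left.1 (coCore_le.trans le_normalizer_core)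
  have hL : Cfsg.fittingOf U ≤ P ⊔ (O ⊓ centralizer (B : Set X)) :=
    CfsgLib.CFun.fittingOf_le_of_cores fun k hk => by
      haveI : Fact k.Prime := ⟨hk⟩
      rcases eq_or_ne k q with rfl | hne
      · exact le_sup_left
      · exact le_trans (le_inf (core_le_coCore hne) (le_centralizer_iff.1 (hBU k hk hne))) le_sup_right
  have hB1 : B ≤ centralizer ((⁅O, B⁆ : Subgroup X) : Set X) := by
    rw [le_centralizer_iff]
    intro x hx
    obtain ⟨p, hp, l, hl, rfl⟩ := CfsgLib.Coprime.mem_sup_exists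
      ((inf_le_left.trans coCore_le).trans le_normalizer_core : O ⊓ centralizer (B : Set X) ≤
        normalizer (P : Set X)) (hL (hX1F hx))
    have h1 : p ∈ P ⊓ O := ⟨hp, by
      have := O.mul_mem (hX1 hx) (O.inv_mem hl.1)
      rwa [mul_inv_cancel_right] at this⟩
    rw [CfsgLib.CFun.inf_eq_bot_of_isPGroup isPGroup_core not_dvd_coCore, mem_bot] at h1
    rw [h1, one_mul]
    exact hl.2
  exact CfsgLib.Coprime.le_centralizer_of_le_centralizer_commutator hBO (by
      obtain ⟨i, hi⟩ := IsPGroup.iff_card.1 hBq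
      rw [hi]
      exact ((hq.out.coprime_iff_not_dvd).2 not_dvd_coCore).pow_left i)
      (Or.inl (haveI := hBq.isNilpotent; CfsgLib.Coprime.isSolvable_of_isNilpotent inferInstance)) hB1

end CfsgLib.Bender.Bad
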