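import Cfsg.Agent.Lib.CFun.OddStable
import Cfsg.Agent.Lib.CFun.OddCores
import Cfsg.Agent.Lib.Invol.BaerSuzuki
import Cfsg.Agent.Lib.Coprime.Action
import Cfsg.Agent.Lib.Coprime.PGroupFrattini

/-!
# Quadratic elements on elementary abelian groups of odd exponent

A quadratic element outside `O(Y)` commutes modulo the kernel with an involution: two quadratic
elements `1 + N`, `1 + M` generate a group in which `h + h⁻¹` commutes with `N`.
-/

set_option autoImplicit false
set_option linter.style.haveILetI false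
set_option linter.unusedSectionVars false
set_option linter.unusedSimpArgs false

open Subgroup
open scoped commutatorElement IsMulCommutative

namespace CfsgLib.Bender.Bad

universe u

variable {Y : Type u} [Group Y]

section Algebra

variable (R : Type*) [Ring R]

/-- The shape of the group ring elements of two quadratic elements. -/
def Shape (N M : R) (g g' : R) : Prop :=
  ∃ a ∈ Subring.centralizer (Subring.centralizer ({N * M + M * N} : Set R) : Set R),
    ∃ b ∈ Subring.centralizer (Subring.centralizer ({N * M + M * N} : Set R) : Set R),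
    ∃ d ∈ Subring.centralizer (Subring.centralizer ({N * M + M * N} : Set R) : Set R),
    ∃ e ∈ Subring.centralizer (Subring.centralizer ({N * M + M * N} : Set R) : Set R),
      g = a + b * N + d * M + e * (N * M) ∧ g' = a - b * N - d * M + e * (M * N)

variable {R} {N M : R}

/-- The sum of an element and its inverse commutes with `N`. -/
theorem Shape.commute_add (hN : N * N = 0) (hM : M * M = 0) {g g' : R} (h : Shape R N M g g') :
    Commute (g + g') N := by
  obtain ⟨a, ha, b, hb, d, hd, e, he, rfl, rfl⟩ := h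
  have hc : Commute (N * M + M * N) N := by
    show (N * M + M * N) * N = N * (N * M + M * N)
    rw [add_mul, mul_add, mul_assoc M N N, hN, mul_zero, add_zero, ← mul_assoc N N M, hN, zero_mul,
      zero_add, mul_assoc]
  have key : ∀ x ∈ Subring.centralizer (Subring.centralizer ({N * M + M * N} : Set R) : Set R),
      Commute x N := fun x hx => (Subring.mem_centralizer_iff.1 hx N
        (Subring.mem_centralizer_iff.2 fun z hz => by
          rw [Set.mem_singleton_iff.1 hz]; exact hc.eq)).symm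
  have e1 : a + b * N + d * M + e * (N * M) + (a - b * N - d * M + e * (M * N)) =
      a + a + e * (N * M + M * N) := by
    rw [mul_add]; abel
  rw [e1]
  exact ((key a ha).add_left (key a ha)).add_left ((key e he).mul_left hc)

theorem Shape.mul (hN : N * N = 0) (hM : M * M = 0) {g g' h h' : R} (h1 : Shape R N M g g')
    (h2 : Shape R N M h h') : Shape R N M (g * h) (h' * g') := by
  obtain ⟨a, ha, b, hb, d, hd, e, he, rfl, rfl⟩ := h1
  obtain ⟨a', ha', b', hb', d', hd', e', he', rfl, rfl⟩ := h2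
  set c := N * M + M * N with hc
  set S := Subring.centralizer (Subring.centralizer ({c} : Set R) : Set R) with hS
  have hcN : N ∈ Subring.centralizer ({c} : Set R) := Subring.mem_centralizer_iff.2 fun z hz => by
    rw [Set.mem_singleton_iff.1 hz, hc, add_mul, mul_add, mul_assoc M N N, hN, mul_zero, add_zero,
      ← mul_assoc N N M, hN, zero_mul, zero_add, mul_assoc]
  have hcM : M ∈ Subring.centralizer ({c} : Set R) := Subring.mem_centralizer_iff.2 fun z hz => by
    rw [Set.mem_singleton_iff.1 hz, hc, add_mul, mul_add, mul_assoc N M M, hM, mul_zero, zero_add,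
      ← mul_assoc M M N, hM, zero_mul, add_zero, mul_assoc]
  have hcS : c ∈ S := Subring.mem_centralizer_iff.2 fun z hz =>
    (Subring.mem_centralizer_iff.1 hz c rfl).symm
  have hSN : ∀ x ∈ S, Commute x N := fun x hx => (Subring.mem_centralizer_iff.1 hx N hcN).symm
  have hSM : ∀ x ∈ S, Commute x M := fun x hx => (Subring.mem_centralizer_iff.1 hx M hcM).symm
  have hSS : ∀ x ∈ S, ∀ y ∈ S, Commute x y := fun x hx y hy => by
    refine (Subring.mem_centralizer_iff.1 hy x ?_)
    refine Subring.mem_centralizer_iff.2 fun z hz => ?_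
    rw [Set.mem_singleton_iff.1 hz]
    refine Subring.mem_centralizer_iff.1 hx c (Subring.mem_centralizer_iff.2 fun w hw => ?_)
    rw [Set.mem_singleton_iff.1 hw]
  -- move the coefficients to the left
  have hmv : ∀ (x : R) (U : R), x ∈ S → (U = N ∨ U = M) → ∀ T : R, U * (x * T) = x * (U * T) :=
    fun x U hx hU T => by
      rcases hU with rfl | rfl
      · rw [← mul_assoc, ← (hSN x hx).eq, mul_assoc]
      · rw [← mul_assoc, ← (hSM x hx).eq, mul_assoc]
  have mN : ∀ x ∈ S, ∀ T : R, N * (x * T) = x * (N * T) := fun x hx => hmv x N hx (Or.inl rfl)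
  have mM : ∀ x ∈ S, ∀ T : R, M * (x * T) = x * (M * T) := fun x hx => hmv x M hx (Or.inr rfl)
  have mN' : ∀ x ∈ S, N * x = x * N := fun x hx => (hSN x hx).eq.symm
  have mM' : ∀ x ∈ S, M * x = x * M := fun x hx => (hSM x hx).eq.symm
  have eNMN : N * (M * N) = c * N := by
    rw [hc, add_mul, mul_assoc M N N, hN, mul_zero, add_zero, mul_assoc]
  have eMNM : M * (N * M) = c * M := by
    rw [hc, add_mul, mul_assoc N M M, hM, mul_zero, zero_add, mul_assoc]
  have eN0 : ∀ T : R, N * (N * T) = 0 := fun T => by rw [← mul_assoc, hN, zero_mul]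
  have eM0 : ∀ T : R, M * (M * T) = 0 := fun T => by rw [← mul_assoc, hM, zero_mul]
  have eMN : M * N = c - N * M := by rw [hc]; abel
  have eNM : N * M = c - M * N := by rw [hc]; abel
  refine ⟨a * a' + d * b' * c, S.add_mem (S.mul_mem ha ha') (S.mul_mem (S.mul_mem hd hb') hcS),
    a * b' + b * a' + e * b' * c,
    S.add_mem (S.add_mem (S.mul_mem ha hb') (S.mul_mem hb ha')) (S.mul_mem (S.mul_mem he hb') hcS),
    a * d' + d * a' + d * e' * c,
    S.add_mem (S.add_mem (S.mul_mem ha hd') (S.mul_mem hd ha')) (S.mul_mem (S.mul_mem hd he') hcS),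
    a * e' + b * d' - d * b' + e * a' + e * e' * c,
    S.add_mem (S.add_mem (S.sub_mem (S.add_mem (S.mul_mem ha he') (S.mul_mem hb hd'))
      (S.mul_mem hd hb')) (S.mul_mem he ha')) (S.mul_mem (S.mul_mem he he') hcS), ?_, ?_⟩
  · simp only [mul_add, add_mul, mul_assoc, mN _ ha', mN _ hb', mN _ hd', mN _ he', mM _ hb',
      mM _ hd', mM _ he', mN' _ ha', mM' _ ha', mN c hcS, hN, hM, eN0, eM0, eNMN, eMNM, mul_zero,
      add_zero, zero_add]
    simp only [eMN, mul_sub, sub_mul, mul_add, add_mul, mul_assoc]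
    abel
  · simp only [mul_add, add_mul, mul_sub, sub_mul, mul_assoc, mN _ ha, mN _ hb, mN _ hd, mN _ he,
      mM _ ha, mM _ hb, mM _ hd, mM _ he, mN' _ ha, mM' _ ha, mM c hcS, hN, hM, eN0, eM0, eNMN, eMNM,
      mul_zero, add_zero, zero_add, sub_zero, zero_sub]
    simp only [eNM, mul_sub, sub_mul, mul_add, add_mul, mul_assoc]
    have sw : ∀ x ∈ S, ∀ y ∈ S, ∀ T : R, x * (y * T) = y * (x * T) :=
      fun x hx y hy T => (hSS x hx y hy).left_comm T
    simp only [(hSS a' ha' a ha).eq, sw a' ha' b hb, sw a' ha' d hd, sw a' ha' e he, sw b' hb' a ha,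
      sw b' hb' d hd, sw b' hb' e he, sw d' hd' a ha, sw d' hd' b hb, sw d' hd' e he, sw e' he' a ha,
      sw e' he' b hb, sw e' he' d hd, sw e' he' e he]
    abel

/-- The shape is symmetric. -/
theorem Shape.symm {g g' : R} (h : Shape R N M g g') : Shape R N M g' g := by
  obtain ⟨a, ha, b, hb, d, hd, e, he, rfl, rfl⟩ := h
  set c := N * M + M * N with hc
  set S := Subring.centralizer (Subring.centralizer ({c} : Set R) : Set R)
  have hcS : c ∈ S := Subring.mem_centralizer_iff.2 fun z hz =>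
    (Subring.mem_centralizer_iff.1 hz c rfl).symm
  refine ⟨a + e * c, S.add_mem ha (S.mul_mem he hcS), -b, S.neg_mem hb, -d, S.neg_mem hd, -e,
    S.neg_mem he, ?_, ?_⟩ <;> rw [hc] <;> noncomm_ring

end Algebra

theorem commutator_zpowers_eq_bot {P : Subgroup Y} {x : Y} (h : ∀ v ∈ P, Commute ⁅v, x⁆ x) :
    ⁅⁅P, zpowers x⁆, zpowers x⁆ = ⊥ := by
  have hin : ⁅P, zpowers x⁆ ≤ centralizer {x} := by
    refine commutator_le.2 fun z hz w hw => mem_centralizer_singleton_iff.2 ?_
    obtain ⟨k, rfl⟩ := mem_zpowers_iff.1 hw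
    clear hw
    induction k using Int.induction_on with
    | zero => simp
    | succ k ih =>
      have e : ⁅z, x ^ ((k : ℤ) + 1)⁆ =
          ⁅z, x ^ (k : ℤ)⁆ * (x ^ (k : ℤ) * ⁅z, x⁆ * (x ^ (k : ℤ))⁻¹) := by
        rw [zpow_add, zpow_one, commutatorElement_def, commutatorElement_def, commutatorElement_def]
        group
      rw [e, ((h z hz).symm.zpow_left k).eq, mul_inv_cancel_right]
      exact (show Commute _ x from ih).mul_left (h z hz)
    | pred k ih =>
      have e : ⁅z, x ^ (-(k : ℤ) - 1)⁆ = ⁅z, x ^ (-(k : ℤ))⁆ *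
          (x ^ (-(k : ℤ) - 1) * ⁅z, x⁆⁻¹ * (x ^ (-(k : ℤ) - 1))⁻¹) := by
        rw [zpow_sub, zpow_one, commutatorElement_def, commutatorElement_def, commutatorElement_def]
        group
      rw [e, ((h z hz).inv_left.symm.zpow_left _).eq, mul_inv_cancel_right]
      exact (show Commute _ x from ih).mul_left (h z hz).inv_left
  rw [eq_bot_iff, commutator_le]
  intro c hc w hw
  obtain ⟨k, rfl⟩ := mem_zpowers_iff.1 hw
  rw [mem_bot, commutatorElement_eq_one_iff_commute]
  exact (show Commute c x from mem_centralizer_singleton_iff.1 (hin hc)).zpow_right k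

section Quad

variable [Finite Y] {q : ℕ} [hq : Fact q.Prime] {V : Subgroup Y} [V.Normal]

/-- A quadratic element outside `O(Y)` commutes modulo the kernel with an involution. -/
theorem exists_invol_of_quadratic (hq2 : q ≠ 2) (hV : Cfsg.IsElementaryAbelian q V)
    (hC : Odd (Nat.card (centralizer (V : Set Y)))) {x : Y} (hquad : ∀ v ∈ V, Commute ⁅v, x⁆ x) :
    x ∈ Cfsg.pPrimeCore 2 Y ∨ ∃ t : Y, orderOf t = 2 ∧ ⁅t, x⁆ ∈ centralizer (V : Set Y) := by
  classical
  set C := centralizer (V : Set Y) with hCdef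
  set π := QuotientGroup.mk' C with hπ
  haveI := hV.1
  by_cases hall : ∀ g : Y ⧸ C, IsPGroup q (closure ({π x, g * π x * g⁻¹} : Set (Y ⧸ C)))
  · left
    obtain ⟨N, hNn, hNp, hxN⟩ := CfsgLib.Invol.exists_normal_pGroup_mem hall
    haveI := hNn
    set P := N.comap π with hP
    haveI : P.Normal := Normal.comap hNn π
    have hCP : C ≤ P := fun c hc => by
      rw [hP, mem_comap, hπ, QuotientGroup.mk'_apply, (QuotientGroup.eq_one_iff c).2 hc]
      exact one_mem N
    refine CfsgLib.Coprime.le_pPrimeCore_of_not_dvd Nat.prime_two (N := P) ?_ hxN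
    rw [CfsgLib.Coprime.card_eq_card_mul_card_map_mk' C hCP, hP,
      map_comap_eq_self_of_surjective (QuotientGroup.mk'_surjective C)]
    obtain ⟨k, hk⟩ := IsPGroup.iff_card.1 hNp
    rw [hk]
    exact (hC.mul ((hq.out.odd_of_ne_two hq2).pow)).not_two_dvd_nat
  right
  push Not at hall
  obtain ⟨gb, hgb⟩ := hall
  obtain ⟨g, rfl⟩ := QuotientGroup.mk'_surjective C gb
  set y := g * x * g⁻¹ with hy
  have hquady : ∀ v ∈ V, Commute ⁅v, y⁆ y := fun v hv => by
    have h1 := (hquad _ (show g⁻¹ * v * g ∈ V by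
      simpa using Normal.conj_mem ‹V.Normal› v hv g⁻¹)).map (MulAut.conj g).toMonoidHom
    rw [map_commutatorElement] at h1
    simpa [hy, mul_assoc] using h1
  set L := closure ({x, y} : Set Y) with hL
  have hxL : x ∈ L := subset_closure (Set.mem_insert _ _)
  have hyL : y ∈ L := subset_closure (Set.mem_insert_of_mem _ rfl)
  rcases Nat.even_or_odd (Nat.card L) with he | ho
  · -- the involution of `L`
    obtain ⟨t, htL, ht⟩ := CfsgLib.Invol.exists_invol_mem he
    refine ⟨t, ht, ?_⟩
    let ρ : Y →* AddMonoid.End (Additive V) :=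
      { toFun := fun h => MonoidHom.toAdditive (MulAut.conjNormal (H := V) h).toMonoidHom
        map_one' := by ext v; simp; rfl
        map_mul' := fun a b => by ext v; simp; rfl }
    have hρ : ∀ (h : Y) (v : Additive V),
        ((Additive.toMul (ρ h v) : V) : Y) = h * (Additive.toMul v : V) * h⁻¹ := fun h v =>
      MulAut.conjNormal_apply h _
    have hq0 : ∀ z : AddMonoid.End (Additive V), q • z = 0 := fun z => AddMonoidHom.ext fun v => by
      show q • z v = 0
      apply Additive.toMul.injective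
      exact Subtype.ext (hV.2 _ (Additive.toMul (z v)).2)
    have hker : ∀ h : Y, ρ h = 1 → h ∈ C := fun h hh => mem_centralizer_iff.2 fun v hv => by
      have h1 := hρ h (Additive.ofMul ⟨v, hv⟩)
      rw [hh] at h1
      exact (mul_inv_eq_iff_eq_mul.1 h1.symm).symm
    have hsq : ∀ w : Y, (∀ v ∈ V, Commute ⁅v, w⁆ w) → (ρ w - 1) * (ρ w - 1) = 0 := by
      intro w hw
      refine AddMonoidHom.ext fun v => ?_
      show ρ w (ρ w v - v) - (ρ w v - v) = 0
      apply Additive.toMul.injective
      refine Subtype.ext ?_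
      rw [toMul_zero, toMul_sub, toMul_sub, Subgroup.coe_one, coe_div, hρ, toMul_sub, coe_div, hρ]
      set a : Y := ((Additive.toMul v : V) : Y) with ha
      have h1 := hw a (Additive.toMul v).2
      have e : w * a * w⁻¹ / a = ⁅a, w⁆⁻¹ := by rw [div_eq_mul_inv, commutatorElement_def]; group
      rw [e, ← (h1.inv_left).eq, mul_inv_cancel_right, div_self']
    set N := ρ x - 1 with hN
    set M := ρ y - 1 with hM
    have hNN : N * N = 0 := hsq x hquad
    have hMM : M * M = 0 := hsq y hquady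
    set S := Subring.centralizer
      (Subring.centralizer ({N * M + M * N} : Set (AddMonoid.End (Additive V))) :
        Set (AddMonoid.End (Additive V)))
    have hshape : ∀ l ∈ L, Shape _ N M (ρ l) (ρ l⁻¹) := by
      intro l hl
      induction hl using closure_induction with
      | mem z hz =>
        rcases hz with hz | hz <;> subst z
        · refine ⟨1, S.one_mem, 1, S.one_mem, 0, S.zero_mem, 0, S.zero_mem, by simp [hN], ?_⟩
          refine left_inv_eq_right_inv (a := ρ x) (by rw [← map_mul, inv_mul_cancel, map_one]) ?_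
          simp only [one_mul, zero_mul, sub_zero, add_zero]
          rw [show ρ x = 1 + N by rw [hN]; abel, mul_sub, mul_one, add_mul, one_mul, hNN]
          abel
        · refine ⟨1, S.one_mem, 0, S.zero_mem, 1, S.one_mem, 0, S.zero_mem, by simp [hM], ?_⟩
          refine left_inv_eq_right_inv (a := ρ y) (by rw [← map_mul, inv_mul_cancel, map_one]) ?_
          simp only [one_mul, zero_mul, sub_zero, add_zero]
          rw [show ρ y = 1 + M by rw [hM]; abel, mul_sub, mul_one, add_mul, one_mul, hMM]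
          abel
      | one =>
        exact ⟨1, S.one_mem, 0, S.zero_mem, 0, S.zero_mem, 0, S.zero_mem, by simp, by simp⟩
      | mul a b _ _ iha ihb =>
        rw [mul_inv_rev, map_mul, map_mul]
        exact iha.mul hNN hMM ihb
      | inv a _ iha =>
        rw [inv_inv]
        exact iha.symm
    have h2 := (hshape t htL).commute_add hNN hMM
    rw [CfsgLib.Invol.invol_inv ht] at h2
    have h3 : (ρ t * N - N * ρ t) + (ρ t * N - N * ρ t) = 0 := by
      have := sub_eq_zero.2 h2.eq
      rw [← this]; noncomm_ring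
    have h4 : ρ t * N - N * ρ t = 0 := by
      obtain ⟨k, hk⟩ := hq.out.odd_of_ne_two hq2
      have h5 := hq0 (ρ t * N - N * ρ t)
      rw [hk, add_nsmul, one_nsmul, mul_comm 2 k, mul_nsmul', two_nsmul, h3, nsmul_zero,
        zero_add] at h5
      exact h5
    have h5 : Commute (ρ t) (ρ x) := by
      have h6 : Commute (ρ t) (N + 1) := (show Commute (ρ t) N from sub_eq_zero.1 h4).add_right
        (Commute.one_right _)
      rwa [hN, sub_add_cancel] at h6
    refine hker _ ?_
    rw [commutatorElement_def, map_mul, map_mul, map_mul, h5.eq, mul_assoc (ρ x), ← map_mul,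
      mul_inv_cancel, map_one, mul_one, ← map_mul, mul_inv_cancel, map_one]
  -- `L` odd: it acts as a `q`-group
  exfalso
  refine hgb ?_
  set G0 := L ⊔ V with hG0
  have hVq : IsPGroup q V := fun v => ⟨1, by rw [pow_one]; exact Subtype.ext (hV.2 v v.2)⟩
  have hG0odd : Odd (Nat.card G0) := by
    obtain ⟨k, hk⟩ := IsPGroup.iff_card.1 hVq
    refine (ho.mul (?_ : Odd (Nat.card V))).of_dvd_nat
      (CfsgLib.Coprime.card_sup_dvd_of_le_normalizer (by rw [normalizer_eq_top]; exact le_top))
    rw [hk]; exact (hq.out.odd_of_ne_two hq2).pow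
  have hVG : V ≤ G0 := le_sup_right
  set P := V.subgroupOf G0 with hP
  set W := normalizer (P : Set G0) with hW
  haveI : (centralizer (P : Set G0)).Normal := by
    haveI : P.Normal := ‹V.Normal›.subgroupOf G0
    infer_instance
  let φ : W ⧸ (centralizer (P : Set G0)).subgroupOf W →* Y ⧸ C :=
    QuotientGroup.lift _ (π.comp (G0.subtype.comp W.subtype)) fun w hw => by
      refine (QuotientGroup.eq_one_iff _).2 (mem_centralizer_iff.2 fun v hv => ?_)
      exact congrArg Subtype.val
        (mem_centralizer_iff.1 (mem_subgroupOf.1 hw) ⟨v, hVG hv⟩ hv)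
  haveI : P.Normal := ‹V.Normal›.subgroupOf G0
  have key : ∀ z ∈ L, (∀ v ∈ V, Commute ⁅v, z⁆ z) → π z ∈ (Cfsg.pCore q _).map φ := by
    intro z hz hqz
    have hzG : z ∈ G0 := mem_sup_left hz
    have hzW : (⟨z, hzG⟩ : G0) ∈ W := by rw [hW, normalizer_eq_top]; exact mem_top _
    have h1 := CfsgLib.CFun.quadratic_le_pCore_of_odd hq2 hG0odd (P := P)
      (A := zpowers ⟨z, hzG⟩) (hVq.of_equiv (subgroupOfEquivOfLe hVG).symm)
      (by rw [normalizer_eq_top]; exact le_top) (commutator_zpowers_eq_bot fun v hv => by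
        refine Subtype.ext ?_
        simpa [commutatorElement_def] using (hqz _ hv).eq)
    exact ⟨_, h1 ⟨⟨⟨z, hzG⟩, hzW⟩, mem_zpowers _, rfl⟩, rfl⟩
  refine ((CfsgLib.Coprime.pCore_isPGroup q).map φ).to_le ((closure_le _).2 ?_)
  rintro z (rfl | rfl)
  · exact key x hxL hquad
  · exact key y hyL hquady

/-- In a group of odd order, a quadratic element centralizes a minimal invariant `q`-group. -/
theorem mem_centralizer_of_quadratic (hq2 : q ≠ 2) {U V : Subgroup Y} (hU : Odd (Nat.card U))
    (hVU : V ≤ U) (hUV : U ≤ normalizer (V : Set Y)) (hVel : Cfsg.IsElementaryAbelian q V)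
    (hmin : ∀ W ≤ V, W ≠ ⊥ → normalizer (U : Set Y) ⊓ normalizer (V : Set Y) ≤ normalizer (W : Set Y) →
      W = V) {b : Y} (hb : b ∈ U) (hquad : ∀ v ∈ V, Commute ⁅v, b⁆ b) :
    b ∈ centralizer (V : Set Y) := by
  classical
  have hVq : IsPGroup q V := fun v => ⟨1, by rw [pow_one]; exact Subtype.ext (hVel.2 v v.2)⟩
  rcases eq_or_ne V ⊥ with hVbot | hVne
  · subst hVbot
    exact mem_centralizer_iff.2 fun v hv => by rw [mem_bot.1 hv, one_mul, mul_one]
  set N := normalizer (U : Set Y) ⊓ normalizer (V : Set Y) with hN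
  set P := closure {z : Y | ∃ g ∈ N, z = g * b * g⁻¹} with hP
  have hbP : b ∈ P := subset_closure ⟨1, one_mem _, by group⟩
  set V' := V.subgroupOf U with hV'
  set W := normalizer (V' : Set U) with hW
  set C' := (centralizer (V' : Set U)).subgroupOf W with hC'
  haveI : V'.Normal := normal_subgroupOf_of_le_normalizer hUV
  set K := (((Cfsg.pCore q (W ⧸ C')).comap (QuotientGroup.mk' C')).map W.subtype).map U.subtype
  have hgen : P ≤ K := by
    rw [hP, closure_le]
    rintro _ ⟨g, hg, rfl⟩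
    have hgU : g * b * g⁻¹ ∈ U := (mem_normalizer_iff.1 hg.1 b).1 hb
    have hgW : (⟨_, hgU⟩ : U) ∈ W := by rw [hW, normalizer_eq_top]; exact mem_top _
    have h1 := CfsgLib.CFun.quadratic_le_pCore_of_odd hq2 hU (P := V')
      (A := zpowers ⟨_, hgU⟩) (hVq.of_equiv (subgroupOfEquivOfLe hVU).symm)
      (by rw [normalizer_eq_top]; exact le_top) (commutator_zpowers_eq_bot fun v hv => by
        refine Subtype.ext ?_
        have h2 := (hquad _ ((mem_normalizer_iff''.1 hg.2 (v : Y)).1 hv)).map (MulAut.conj g).toMonoidHom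
        rw [map_commutatorElement] at h2
        simpa [commutatorElement_def, mul_assoc] using h2.eq)
    exact ⟨⟨_, hgU⟩, ⟨⟨⟨_, hgU⟩, hgW⟩, h1 ⟨⟨⟨_, hgU⟩, hgW⟩, mem_zpowers _, rfl⟩, rfl⟩, rfl⟩
  have hPV : P ≤ normalizer (V : Set Y) := hgen.trans ((map_subtype_le _).trans hUV)
  set Q := ((normalizerMonoidHom V).comp (inclusion hPV)).range with hQ
  have hQq : IsPGroup q Q := by
    rintro ⟨_, z, rfl⟩
    obtain ⟨w, ⟨k, hk, rfl⟩, hw⟩ := hgen z.2
    obtain ⟨i, hi⟩ := CfsgLib.Coprime.pCore_isPGroup (G := W ⧸ C') q ⟨_, hk⟩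
    refine ⟨i, Subtype.ext ?_⟩
    rw [SubmonoidClass.coe_pow, OneMemClass.coe_one]
    show (((normalizerMonoidHom V).comp (inclusion hPV)) z) ^ q ^ i = 1
    rw [← map_pow]
    refine MulEquiv.ext fun v => Subtype.ext ?_
    show ((z : Y) ^ q ^ i) * (v : Y) * ((z : Y) ^ q ^ i)⁻¹ = v
    have h3 : k ^ q ^ i ∈ C' := by
      rw [← QuotientGroup.eq_one_iff, QuotientGroup.mk_pow]
      exact congrArg Subtype.val hi
    have h4 := congrArg Subtype.val (mem_centralizer_iff.1 (mem_subgroupOf.1 h3) ⟨v, hVU v.2⟩ v.2)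
    simp only [← hw, Subgroup.subtype_apply] at *
    rw [mul_inv_eq_iff_eq_mul]
    simpa using h4.symm
  have hdvd : q ∣ Nat.card V := by
    obtain ⟨i, hi⟩ := IsPGroup.iff_card.1 hVq
    rcases i with _ | i
    · exact absurd (card_eq_one.1 (by rw [hi, pow_zero])) hVne
    · rw [hi]; exact dvd_pow_self q i.succ_ne_zero
  have h1fix : (1 : V) ∈ MulAction.fixedPoints Q V := fun g => map_one g.1
  obtain ⟨v, hv, hv1⟩ := hQq.exists_fixed_point_of_prime_dvd_card_of_fixed_point V hdvd h1fix
  set F := V ⊓ centralizer (P : Set Y) with hF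
  have hvF : (v : Y) ∈ F := ⟨v.2, mem_centralizer_iff.2 fun p hp => by
    have h2 := congrArg Subtype.val (hv ⟨_, ⟨⟨p, hp⟩, rfl⟩⟩)
    exact mul_inv_eq_iff_eq_mul.1 h2⟩
  have hFV : F = V := by
    refine hmin F inf_le_left (fun e => hv1 (Subtype.ext ((mem_bot.1 (e ▸ hvF)).symm))) ?_
    have hNP : N ≤ normalizer (P : Set Y) := by
      intro g hg
      rw [hP]
      refine mem_normalizer_fintype fun z hz => ?_
      induction hz using closure_induction with
      | mem z hz =>
        obtain ⟨k, hk, rfl⟩ := hz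
        exact subset_closure ⟨g * k, mul_mem hg hk, by group⟩
      | one => simp
      | mul a c _ _ ha hc =>
        rw [show g * (a * c) * g⁻¹ = g * a * g⁻¹ * (g * c * g⁻¹) by group]
        exact mul_mem ha hc
      | inv a _ ha =>
        rw [show g * a⁻¹ * g⁻¹ = (g * a * g⁻¹)⁻¹ by group]
        exact inv_mem ha
    exact CfsgLib.Coprime.inf_le_normalizer inf_le_right
      (hNP.trans (CfsgLib.Coprime.normalizer_le_normalizer_centralizer _))
  exact mem_centralizer_iff.2 fun v hv =>
    (mem_centralizer_iff.1 (hFV.ge hv).2 b hbP).symm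

theorem mem_normalizer_sup_zpowers {C : Subgroup Y} [C.Normal] {b g : Y} (h : ⁅g, b⁆ ∈ C) :
    g ∈ normalizer ((C ⊔ zpowers b : Subgroup Y) : Set Y) := by
  refine mem_normalizer_fintype fun z hz => ?_
  have hle : C ⊔ zpowers b ≤ (C ⊔ zpowers b).comap (MulAut.conj g).toMonoidHom := sup_le
    (fun c hc => mem_sup_left (Normal.conj_mem ‹C.Normal› c hc g))
    (zpowers_le.2 (show g * b * g⁻¹ ∈ C ⊔ zpowers b by
      rw [show g * b * g⁻¹ = ⁅g, b⁆ * b by rw [commutatorElement_def]; group]
      exact mul_mem (mem_sup_left h) (mem_sup_right (mem_zpowers b))))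
  exact hle hz

theorem exists_invol_pow_of_even {g : Y} (h : Even (orderOf g)) :
    ∃ t ∈ zpowers g, orderOf t = 2 :=
  ⟨g ^ (orderOf g / 2), pow_mem (mem_zpowers g) _, CfsgLib.Invol.orderOf_pow_half h⟩

/-- An element quadratic on a normal `q`-group modulo its Frattini subgroup. -/
theorem exists_odd_ge_of_quadratic (hq2 : q ≠ 2) (heven : Even (Nat.card Y)) {V0 : Subgroup Y}
    [V0.Normal] (hV0 : IsPGroup q V0) (hC : Odd (Nat.card (centralizer (V0 : Set Y)))) {b : Y}
    (hb : Odd (orderOf b)) (hquad : ∀ v ∈ V0, Commute ⁅v, b⁆ b) :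
    ∃ P : Subgroup Y, Odd (Nat.card P) ∧ V0 ≤ P ∧ b ∈ P ∧
      (∀ s : Y, ⁅s, b⁆ ∈ V0 → s ∈ normalizer (P : Set Y)) ∧
      ∃ t : Y, orderOf t = 2 ∧ t ∈ normalizer (P : Set Y) := by
  classical
  set Φ := (frattini V0).map V0.subtype with hΦ
  haveI : Φ.Normal := normalizer_eq_top_iff.1 (top_le_iff.1 (by
    rw [← normalizer_eq_top (H := V0)]
    exact CfsgLib.PGroup.normalizer_le_normalizer_map_char V0 _))
  have hΦV : Φ ≤ V0 := map_subtype_le _
  have hΦodd : Odd (Nat.card Φ) := by
    obtain ⟨k, hk⟩ := IsPGroup.iff_card.1 (hV0.to_le hΦV)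
    rw [hk]; exact (hq.out.odd_of_ne_two hq2).pow
  set π := QuotientGroup.mk' Φ with hπ
  have hπs : Function.Surjective π := QuotientGroup.mk'_surjective Φ
  set V := V0.map π with hVdef
  haveI : V.Normal := Normal.map ‹V0.Normal› π hπs
  have hVel : Cfsg.IsElementaryAbelian q V := by
    refine ⟨⟨⟨?_⟩⟩, ?_⟩
    · rintro ⟨_, a, ha, rfl⟩ ⟨_, c, hc, rfl⟩
      refine Subtype.ext ?_
      show π a * π c = π c * π a
      rw [← map_mul, ← map_mul, hπ, QuotientGroup.mk'_apply, QuotientGroup.mk'_apply, QuotientGroup.eq]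
      refine ⟨(⟨a, ha⟩ * ⟨c, hc⟩ : V0)⁻¹ * (⟨c, hc⟩ * ⟨a, ha⟩),
        CfsgLib.Coprime.commutator_le_frattini hV0 ?_, rfl⟩
      have h1 := commutator_mem_commutator (mem_top (⟨c, hc⟩ : V0)⁻¹) (mem_top (⟨a, ha⟩ : V0)⁻¹)
      rw [_root_.commutator_def]
      convert h1 using 1
      rw [commutatorElement_def]; group
    · rintro _ ⟨a, ha, rfl⟩
      rw [← map_pow, hπ, QuotientGroup.mk'_apply, QuotientGroup.eq_one_iff]
      exact ⟨_, CfsgLib.Coprime.pow_mem_frattini hV0 ⟨a, ha⟩, rfl⟩
  set C0 := (centralizer (V : Set (Y ⧸ Φ))).comap π with hC0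
  haveI : C0.Normal := Normal.comap inferInstance π
  have hC0odd : Odd (Nat.card C0) := by
    refine Nat.not_even_iff_odd.1 fun he => ?_
    obtain ⟨t, htC, ht⟩ := CfsgLib.Invol.exists_invol_mem he
    refine Nat.not_even_iff_odd.2 hC (CfsgLib.Invol.even_card_of_invol_mem ?_ ht)
    refine CfsgLib.Coprime.le_centralizer_of_trivial_on_frattini_quotient
      (by rw [normalizer_eq_top]; exact le_top) ?_ (fun a ha k hk => ?_) (mem_zpowers t)
    · rw [Nat.card_zpowers, ht, ← card_map_of_injective V0.subtype_injective]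
      exact Nat.coprime_two_left.2 hΦodd
    · have ha' : a ∈ C0 := zpowers_le.2 htC ha
      show a * k * a⁻¹ * k⁻¹ ∈ Φ
      rw [← QuotientGroup.eq_one_iff (N := Φ)]
      show π (a * k * a⁻¹ * k⁻¹) = 1
      rw [map_mul, map_mul, map_mul, map_inv, map_inv,
        ← mem_centralizer_iff.1 ha' _ (mem_map_of_mem π hk)]
      group
  have hCodd : Odd (Nat.card (centralizer (V : Set (Y ⧸ Φ)))) := by
    have h1 := card_map_dvd C0 π
    rw [hC0, map_comap_eq_self_of_surjective hπs] at h1
    exact hC0odd.of_dvd_nat h1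
  have hV0C : V0 ≤ C0 := fun v hv => mem_centralizer_iff.2 fun w hw =>
    congrArg Subtype.val (hVel.1.is_comm.comm (⟨w, hw⟩ : V) ⟨π v, mem_map_of_mem π hv⟩)
  have hquad' : ∀ v ∈ V, Commute ⁅v, π b⁆ (π b) := by
    rintro _ ⟨v, hv, rfl⟩
    rw [← map_commutatorElement]
    exact (hquad v hv).map π
  rcases exists_invol_of_quadratic hq2 hVel hCodd hquad' with hO | ⟨tb, htb, htC⟩
  · set P := (Cfsg.pPrimeCore 2 (Y ⧸ Φ)).comap π with hP
    haveI : (Cfsg.pPrimeCore 2 (Y ⧸ Φ)).Normal := Subgroup.sSup_normal _ fun _ h => h.1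
    haveI : P.Normal := Normal.comap inferInstance π
    have hΦP : Φ ≤ P := fun c hc => by
      rw [hP, mem_comap, hπ, QuotientGroup.mk'_apply, (QuotientGroup.eq_one_iff c).2 hc]
      exact one_mem _
    have hPodd : Odd (Nat.card P) := by
      rw [CfsgLib.Coprime.card_eq_card_mul_card_map_mk' Φ hΦP, hP,
        map_comap_eq_self_of_surjective hπs]
      exact hΦodd.mul (Nat.not_even_iff_odd.1 fun h =>
        CfsgLib.Coprime.pPrimeCore_not_dvd Nat.prime_two (even_iff_two_dvd.1 h))
    obtain ⟨t, -, ht⟩ := CfsgLib.Invol.exists_invol_mem (H := (⊤ : Subgroup Y))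
      (by rwa [card_top])
    refine ⟨P, hPodd, fun v hv => ?_, hO, fun s _ => by rw [normalizer_eq_top]; exact mem_top s,
      t, ht, by rw [normalizer_eq_top]; exact mem_top t⟩
    refine CfsgLib.Coprime.le_pPrimeCore_of_not_dvd Nat.prime_two (N := V) ?_ (mem_map_of_mem π hv)
    obtain ⟨k, hk⟩ := IsPGroup.iff_card.1 (hV0.map π)
    rw [hVdef, hk]
    exact ((hq.out.odd_of_ne_two hq2).pow).not_two_dvd_nat
  · obtain ⟨g, rfl⟩ := hπs tb
    have hg : Even (orderOf g) := even_iff_two_dvd.2 (htb ▸ orderOf_map_dvd π g)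
    obtain ⟨t, htg, ht⟩ := exists_invol_pow_of_even hg
    have hgb : ⁅g, b⁆ ∈ C0 := by
      rw [hC0, mem_comap, map_commutatorElement]; exact htC
    refine ⟨C0 ⊔ zpowers b, ?_, hV0C.trans le_sup_left, mem_sup_right (mem_zpowers b),
      fun s hs => mem_normalizer_sup_zpowers (hV0C hs), t, ht,
      zpowers_le.2 (mem_normalizer_sup_zpowers hgb) htg⟩
    rw [sup_comm]
    exact ((Nat.card_zpowers b).symm ▸ hb).mul hC0odd |>.of_dvd_nat
      (CfsgLib.Coprime.card_sup_dvd_of_normal _ _)

/-- An abelian group of quadratic elements lies in an odd group normalized by an involution. -/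
theorem exists_odd_ge_of_quadratic_abelian (hq2 : q ≠ 2) (heven : Even (Nat.card Y)) {Λ : Subgroup Y}
    [Λ.Normal] (hΛ : Cfsg.IsElementaryAbelian q Λ) (hC : Odd (Nat.card (centralizer (Λ : Set Y))))
    {A : Subgroup Y} (hAab : IsMulCommutative A) (hAodd : Odd (Nat.card A))
    (hquad : ∀ a ∈ A, ∀ v ∈ Λ, Commute ⁅v, a⁆ a) :
    ∃ P : Subgroup Y, Odd (Nat.card P) ∧ A ≤ P ∧
      ∃ t : Y, orderOf t = 2 ∧ t ∈ normalizer (P : Set Y) := by
  classical
  set C := centralizer (Λ : Set Y) with hCdef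
  set π := QuotientGroup.mk' C with hπ
  let KK : Subgroup Y → Subgroup Y := fun B => (centralizer (π '' (B : Set Y))).comap π
  obtain ⟨A1, ⟨hA1, hK1⟩, hmax⟩ := (Set.toFinite
    {B : Subgroup Y | B ≤ A ∧ Even (Nat.card (KK B))}).exists_maximal ⟨⊥, bot_le, by
      have : KK ⊥ = ⊤ := top_le_iff.1 fun y _ => by
        show π y ∈ centralizer (π '' _)
        refine mem_centralizer_iff.2 ?_
        rintro _ ⟨z, hz, rfl⟩
        rw [mem_bot.1 hz, map_one, one_mul, mul_one]
      rw [this, card_top]; exact heven⟩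
  set K := KK A1 with hK
  have hcomm : ∀ a ∈ A, ∀ c ∈ A, Commute a c := fun a ha c hc =>
    congrArg Subtype.val (hAab.is_comm.comm (⟨a, ha⟩ : A) ⟨c, hc⟩)
  have hAK : A ≤ K := fun a ha => by
    show π a ∈ centralizer (π '' (A1 : Set Y))
    refine mem_centralizer_iff.2 ?_
    rintro _ ⟨z, hz, rfl⟩
    exact ((hcomm z (hA1 hz) a ha).map π).eq
  have hCK : C ≤ K := fun c hc => by
    show π c ∈ centralizer (π '' (A1 : Set Y))
    rw [hπ, QuotientGroup.mk'_apply, (QuotientGroup.eq_one_iff c).2 hc]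
    exact one_mem _
  haveI := hΛ.1
  have hΛC : Λ ≤ C := Subgroup.le_centralizer_iff_isMulCommutative.2 hΛ.1
  set O := (Cfsg.pPrimeCore 2 K).map K.subtype with hO
  haveI : (Cfsg.pPrimeCore 2 K).Normal := Subgroup.sSup_normal _ fun _ h => h.1
  obtain ⟨t, htK, ht⟩ := CfsgLib.Invol.exists_invol_mem hK1
  refine ⟨O, ?_, fun a ha => ?_, t, ht, ?_⟩
  · rw [hO, card_map_of_injective K.subtype_injective]
    exact Nat.not_even_iff_odd.1 fun h =>
      CfsgLib.Coprime.pPrimeCore_not_dvd Nat.prime_two (even_iff_two_dvd.1 h)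
  swap
  · exact le_normalizer_map K.subtype
      ⟨⟨t, htK⟩, (normalizer_eq_top (H := Cfsg.pPrimeCore 2 K)).symm ▸ mem_top _, rfl⟩
  refine ⟨⟨a, hAK ha⟩, ?_, rfl⟩
  by_cases ha1 : a ∈ A1
  · set N := (C ⊔ zpowers a).subgroupOf K with hN
    haveI : N.Normal := normal_subgroupOf_of_le_normalizer fun k hk => by
      refine mem_normalizer_sup_zpowers ?_
      rw [← QuotientGroup.eq_one_iff (N := C)]
      show π ⁅k, a⁆ = 1
      rw [map_commutatorElement, commutatorElement_eq_one_iff_mul_comm]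
      exact (mem_centralizer_iff.1 hk _ ⟨a, ha1, rfl⟩).symm
    refine CfsgLib.Coprime.le_pPrimeCore_of_not_dvd Nat.prime_two (N := N) ?_
      (show (⟨a, hAK ha⟩ : K) ∈ N from mem_sup_right (mem_zpowers a))
    rw [Nat.card_congr (subgroupOfEquivOfLe (sup_le hCK (zpowers_le.2 (hAK ha)))).toEquiv]
    refine (((hAodd.of_dvd_nat (card_dvd_of_le (zpowers_le.2 ha))).mul hC).of_dvd_nat ?_).not_two_dvd_nat
    rw [sup_comm]
    exact CfsgLib.Coprime.card_sup_dvd_of_normal _ _
  · haveI : (Λ.subgroupOf K).Normal := ‹Λ.Normal›.subgroupOf K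
    have hΛK : Λ ≤ K := hΛC.trans hCK
    have hcen : centralizer (Λ.subgroupOf K : Set K) ≤ C.subgroupOf K := fun k hk =>
      mem_subgroupOf.2 (mem_centralizer_iff.2 fun v hv =>
        congrArg Subtype.val (mem_centralizer_iff.1 hk ⟨v, hΛK hv⟩ hv))
    rcases exists_invol_of_quadratic hq2 (V := Λ.subgroupOf K)
        ⟨⟨⟨fun u v => Subtype.ext (Subtype.ext
          (show ((u : K) : Y) * ((v : K) : Y) = ((v : K) : Y) * ((u : K) : Y) from
            congrArg Subtype.val (hΛ.1.is_comm.comm (⟨_, u.2⟩ : Λ) ⟨_, v.2⟩)))⟩⟩,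
          fun u hu => Subtype.ext (by simpa using hΛ.2 _ hu)⟩
        ((hC.of_dvd_nat (dvd_of_eq (Nat.card_congr (subgroupOfEquivOfLe hCK).toEquiv))).of_dvd_nat
          (card_dvd_of_le hcen))
        (x := ⟨a, hAK ha⟩) (fun v hv => Subtype.ext (by
          simpa [commutatorElement_def] using (hquad a ha _ hv).eq)) with h1 | ⟨s, hs, hsC⟩
    · exact h1
    exfalso
    have hsa : Commute (π (s : Y)) (π a) := by
      rw [← commutatorElement_eq_one_iff_commute, ← map_commutatorElement, hπ,
        QuotientGroup.mk'_apply, QuotientGroup.eq_one_iff]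
      simpa [mem_subgroupOf, commutatorElement_def] using hcen hsC
    refine ha1 ((hmax ⟨sup_le hA1 (zpowers_le.2 ha), ?_⟩ le_sup_left)
      (mem_sup_right (mem_zpowers a)))
    refine CfsgLib.Invol.even_card_of_invol_mem (t := (s : Y)) ?_ (by rwa [orderOf_coe])
    show π s ∈ centralizer _
    refine mem_centralizer_iff.2 ?_
    rintro _ ⟨z, hz, rfl⟩
    have hle : A1 ⊔ zpowers a ≤ (centralizer ({π (s : Y)} : Set (Y ⧸ C))).comap π := sup_le
      (fun z hz => mem_centralizer_singleton_iff.2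
        (mem_centralizer_iff.1 s.2 _ ⟨z, hz, rfl⟩))
      (zpowers_le.2 (mem_centralizer_singleton_iff.2 hsa.eq.symm))
    exact mem_centralizer_singleton_iff.1 (hle hz)

end Quad

end CfsgLib.Bender.Bad
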