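import Cfsg.Agent.Lib.Bender.Bad.Members
import Cfsg.Agent.Lib.Bender.Bad.Quadratic
import Cfsg.Agent.Lib.Bender.Bad.MaxPrime

/-!
# A `q`-subgroup normalized by an involution is centralized by one

For a maximal odd transitive `U` with good prime `q` and a Sylow `q`-subgroup of the group inside `U`.
-/

set_option autoImplicit false
set_option linter.style.haveILetI false
set_option linter.unusedSectionVars false

open Subgroup
open scoped commutatorElement
open CfsgLib.PushUp (MA exists_ma le_J J_le J_le_self normalizer_le_J normalizer_le_Jz)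
open CfsgLib.CFun (core coCore isPGroup_core core_le le_normalizer_core coCore_le le_normalizer_coCore
  not_dvd_coCore core_le_coCore)
open CfsgLib.Coprime (IsSylowIn)
open CfsgLib.Fusion (conjBy mem_conjBy conjBy_mono card_conjBy conjBy_conjBy conjBy_conjBy_inv
  conjBy_inv_conjBy conjBy_eq_iff conjBy_normalizer conjBy_centralizer conjBy_le_iff conj_mem_conjBy)

namespace CfsgLib.Bender.Bad

universe u

variable {X : Type u} [Group X] [Finite X] {U R V0 S : Subgroup X} {q : ℕ} [hq : Fact q.Prime]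

theorem isElementaryAbelian_closure {Z : Set X} (hc : ∀ a ∈ Z, ∀ b ∈ Z, Commute a b)
    (hp : ∀ a ∈ Z, a ^ q = 1) : Cfsg.IsElementaryAbelian q (closure Z) := by
  have hab : closure Z ≤ centralizer (closure Z : Set X) := by
    have h1 : closure Z ≤ centralizer Z := (closure_le _).2 fun a ha =>
      mem_centralizer_iff.2 fun b hb => hc b hb a ha
    rw [le_centralizer_iff, closure_le]
    intro a ha
    exact mem_centralizer_iff.2 fun b hb => (mem_centralizer_iff.1 (h1 hb) a ha).symm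
  refine ⟨le_centralizer_iff_isMulCommutative.1 hab, fun x hx => ?_⟩
  induction hx using closure_induction with
  | mem z hz => exact hp z hz
  | one => exact one_pow q
  | mul a b ha hb iha ihb =>
    rw [(show Commute a b from mem_centralizer_iff.1 (hab hb) a ha).mul_pow, iha, ihb, one_mul]
  | inv a _ iha => rw [inv_pow, iha, inv_one]

theorem coe_commute_of_le {A : Subgroup X} (h : IsMulCommutative A) {a b : X} (ha : a ∈ A)
    (hb : b ∈ A) : Commute a b := congrArg Subtype.val (h.is_comm.comm (⟨a, ha⟩ : A) ⟨b, hb⟩)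

/-- An abelian subgroup normalized by `S` lies in `V0`. -/
theorem Best.le_of_abelian (h : Best q V0 S) (hq2 : q ≠ 2) {A : Subgroup X} (hAS : A ≤ S)
    (hAc : IsMulCommutative A) (hSA : S ≤ normalizer (A : Set X)) : A ≤ V0 := by
  by_contra hA
  set Y := normalizer (V0 : Set X) with hY
  haveI hV0n : (V0.subgroupOf S).Normal := normal_subgroupOf_of_le_normalizer h.syl.1
  haveI : (A.subgroupOf S).Normal := normal_subgroupOf_of_le_normalizer hSA
  set π := QuotientGroup.mk' (V0.subgroupOf S) with hπ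
  haveI : ((A.subgroupOf S).map π).Normal :=
    Normal.map inferInstance π (QuotientGroup.mk'_surjective _)
  haveI : Group.IsNilpotent (S ⧸ V0.subgroupOf S) := (h.syl.isPGroup.to_quotient _).isNilpotent
  have hne : (A.subgroupOf S).map π ≠ ⊥ := fun e => hA fun a ha => by
    have h1 : π ⟨a, hAS ha⟩ = 1 :=
      mem_bot.1 (e ▸ mem_map_of_mem π (show (⟨a, hAS ha⟩ : S) ∈ A.subgroupOf S from ha))
    exact mem_subgroupOf.1 ((QuotientGroup.eq_one_iff (N := V0.subgroupOf S) ⟨a, hAS ha⟩).1 h1)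
  obtain ⟨⟨z, hz⟩, hzne⟩ := ne_bot_iff_exists_ne_one.1
    (CfsgLib.Coprime.nilpotent_inf_center_ne_bot _ hne)
  have hz1 : z ≠ 1 := fun e => hzne (Subtype.ext e)
  obtain ⟨⟨b, hb, rfl⟩, hzc⟩ := hz
  have hb0 : (b : X) ∉ V0 := fun e => hz1 ((QuotientGroup.eq_one_iff b).2 e)
  have hcomm : ∀ s ∈ S, ⁅s, (b : X)⁆ ∈ V0 := fun s hs => by
    have h1 : π ⁅(⟨s, hs⟩ : S), b⁆ = 1 := by
      rw [map_commutatorElement, commutatorElement_eq_one_iff_mul_comm]
      exact mem_center_iff.1 hzc (π ⟨s, hs⟩)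
    have h2 := (QuotientGroup.eq_one_iff _).1 h1
    simpa [mem_subgroupOf, commutatorElement_def] using h2
  have hbY : (b : X) ∈ Y := h.syl.1 b.2
  haveI : (V0.subgroupOf Y).Normal := Subgroup.normal_in_normalizer
  have hbodd : Odd (orderOf (⟨(b : X), hbY⟩ : Y)) := by
    rw [← orderOf_coe]
    exact (odd_card_of_isPGroup hq2 h.syl.isPGroup).of_dvd_nat (Subgroup.orderOf_dvd_natCard S b.2)
  have hCY : Odd (Nat.card (centralizer (V0.subgroupOf Y : Set Y))) := by
    refine h.mem.odd.of_dvd_nat ?_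
    rw [← card_map_of_injective Y.subtype_injective]
    refine card_dvd_of_le ?_
    rintro _ ⟨y, hy, rfl⟩
    exact mem_centralizer_iff.2 fun v hv =>
      congrArg Subtype.val (mem_centralizer_iff.1 hy ⟨v, le_normalizer hv⟩ hv)
  obtain ⟨P, hPodd, hV0P, hbP, hnorm, t, ht, htP⟩ :=
    exists_odd_ge_of_quadratic hq2 h.mem.even
      (h.mem.pgroup.of_equiv (subgroupOfEquivOfLe le_normalizer).symm) hCY hbodd (fun v hv => by
        have h1 : ⁅(v : X), (b : X)⁆ ∈ A := by
          rw [commutatorElement_def]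
          exact mul_mem ((mem_normalizer_iff.1 (hSA (h.le_syl hv)) _).1 hb) (inv_mem hb)
        refine Subtype.ext ?_
        simpa [commutatorElement_def] using (coe_commute_of_le hAc h1 hb).eq)
  have hSP : S ≤ normalizer (P.map Y.subtype : Set X) := fun s hs =>
    le_normalizer_map Y.subtype ⟨⟨s, h.syl.1 hs⟩, hnorm _ (by
      rw [mem_subgroupOf]
      simpa [commutatorElement_def] using hcomm s hs), rfl⟩
  have h1 := h.inf_eq (P := P.map Y.subtype)
    (by rwa [card_map_of_injective Y.subtype_injective])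
    (fun v hv => ⟨⟨v, le_normalizer hv⟩, hV0P hv, rfl⟩) (map_subtype_le P) hSP
    (t := (t : X)) (by rwa [orderOf_coe]) t.2 (le_normalizer_map Y.subtype ⟨t, htP, rfl⟩)
  exact hb0 (h1.le ⟨b.2, ⟨_, hbP, rfl⟩⟩)

section Contradiction

variable (hU : MaxOdd U) (hq2 : q ≠ 2) (hg : GoodData U q) (hR : IsSylowIn q R ⊤) (hRU : R ≤ U)
include hU hq2 hg hR hRU

theorem sylow_of_top : IsSylowIn q R U := by
  refine ⟨hRU, le_antisymm (isPGroup_card_le hR.isPGroup hRU) ?_⟩
  rw [hR.2]
  exact Nat.pow_le_pow_right hq.out.pos ((Nat.factorization_le_iff_dvd Nat.card_pos.ne'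
    Nat.card_pos.ne').2 (card_dvd_of_le le_top) q)

theorem not_best (h : Best q V0 S) (hSR : S ≤ R) : False := by
  classical
  set Y := normalizer (V0 : Set X) with hY
  have hV0S := h.le_syl
  have hSY := h.syl.1
  have hRT := sylow_of_top hU hq2 hg hR hRU
  have hAR : az U q ≤ R := by
    have h1 := map_mono (f := U.subtype) (CfsgLib.Coprime.pCore_le_sylow (p := q) hRT.toSylow)
    rw [hRT.map_toSylow] at h1
    exact az_le_core.trans h1
  obtain ⟨t, htY, ht⟩ := h.exists_invol
  -- a minimal normal subgroup of `U`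
  obtain ⟨V, ⟨hVA, hVne, hUV⟩, hVmin⟩ := (Set.toFinite
    {W : Subgroup X | W ≤ az U q ∧ W ≠ ⊥ ∧ U ≤ normalizer (W : Set X)}).exists_minimal
      ⟨az U q, le_rfl, az_ne_bot hg.core_ne, le_normalizer_az⟩
  have hVU : V ≤ U := hVA.trans az_le
  have hVc : IsMulCommutative V := le_centralizer_iff_isMulCommutative.1 fun a ha =>
    mem_centralizer_iff.2 fun b hb => (az_commute (hVA hb) (hVA ha)).eq
  have hVel : Cfsg.IsElementaryAbelian q V := ⟨hVc, fun v hv => (hVA hv).2.2⟩
  have hquadU : ∀ b ∈ U, (∀ v ∈ V, Commute ⁅v, b⁆ b) → b ∈ centralizer (V : Set X) :=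
    fun b hb hb' => mem_centralizer_of_quadratic hq2 hU.odd hVU hUV hVel
      (fun W hW hWne hn => le_antisymm hW (hVmin ⟨hW.trans hVA, hWne,
        (le_inf le_normalizer hUV).trans hn⟩ hW)) hb hb'
  have hCV : centralizer (V : Set X) ≤ U := hU.centralizer_le hVne hVU hUV
  have hV0U : V0 ≤ U := hV0S.trans (hSR.trans hRU)
  -- `V ≤ V0`
  have hVV0 : V ≤ V0 := by
    have hVYS : V ⊓ Y ≤ S := by
      have hn : S ≤ normalizer ((V ⊓ Y : Subgroup X) : Set X) :=
        CfsgLib.Coprime.inf_le_normalizer ((hSR.trans hRU).trans hUV) (hSY.trans le_normalizer)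
      have h1 : IsPGroup q ↥((V ⊓ Y) ⊔ S) :=
        ((hR.isPGroup.to_le (hVA.trans hAR)).to_le inf_le_left).to_sup_of_normal_left'
          h.syl.isPGroup hn
      have h2 : S = (V ⊓ Y) ⊔ S := eq_of_le_of_card_ge le_sup_right (by
        rw [h.syl.2]; exact isPGroup_card_le h1 (sup_le inf_le_right hSY))
      rw [h2]
      exact le_sup_left
    have hVY : V ⊓ Y ≤ V0 := h.le_of_abelian hq2 hVYS
      (le_centralizer_iff_isMulCommutative.1 fun a ha => mem_centralizer_iff.2 fun b hb =>
        (coe_commute_of_le hVc hb.1 ha.1).eq)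
      (CfsgLib.Coprime.inf_le_normalizer ((hSR.trans hRU).trans hUV) (hSY.trans le_normalizer))
    by_contra hcon
    obtain ⟨x, hx, hxN, hx0⟩ := CfsgLib.Invol.exists_mem_normalizer_notMem
      (hR.isPGroup.to_le (sup_le (hVA.trans hAR) (hV0S.trans hSR))) (le_sup_right : V0 ≤ V ⊔ V0)
      fun hle => hcon (le_sup_left.trans hle)
    obtain ⟨v, hv, w, hw, rfl⟩ := CfsgLib.Coprime.mem_sup_exists (hV0U.trans hUV) hx
    refine hx0 (mul_mem (hVY ⟨hv, ?_⟩) hw)
    have h1 := mul_mem hxN (inv_mem (le_normalizer hw))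
    rwa [mul_inv_cancel_right] at h1
  -- the closure of `V` under `Y`
  set Z : Set X := {z | ∃ g ∈ Y, ∃ v ∈ V, z = g * v * g⁻¹} with hZ
  set Λ := closure Z with hΛ
  have hZV0 : ∀ g ∈ Y, ∀ v ∈ V, g * v * g⁻¹ ∈ V0 := fun g hg v hv =>
    (mem_normalizer_iff.1 hg v).1 (hVV0 hv)
  have hΛel : Cfsg.IsElementaryAbelian q Λ := by
    refine isElementaryAbelian_closure ?_ ?_
    · rintro _ ⟨g, hg, v, hv, rfl⟩ _ ⟨g', hg', v', hv', rfl⟩
      set k := g⁻¹ * g' with hk
      have hkY : k ∈ Y := mul_mem (inv_mem hg) hg'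
      set b := k * v' * k⁻¹ with hb
      have hbU : b ∈ U := hV0U (hZV0 k hkY v' hv')
      have hbC : b ∈ centralizer (V : Set X) := hquadU b hbU fun w hw => by
        have hwk : k⁻¹ * w * k ∈ U := hV0U (by
          simpa using hZV0 k⁻¹ (inv_mem hkY) w hw)
        set v'' := (k⁻¹ * w * k) * v' * (k⁻¹ * w * k)⁻¹ * v'⁻¹ with hv''
        have hv''V : v'' ∈ V := mul_mem ((mem_normalizer_iff.1 (hUV hwk) v').1 hv') (inv_mem hv')
        have e : ⁅w, b⁆ = k * v'' * k⁻¹ := by rw [hb, hv'', commutatorElement_def]; group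
        rw [e]
        simpa [hb, mul_assoc] using (coe_commute_of_le hVc hv''V hv').map (MulAut.conj k).toMonoidHom
      have h1 : Commute (MulAut.conj g v) (MulAut.conj g b) :=
        (show Commute v b from mem_centralizer_iff.1 hbC v hv).map (MulAut.conj g).toMonoidHom
      simpa [hb, hk, mul_assoc] using h1
    · rintro _ ⟨g, -, v, hv, rfl⟩
      rw [conj_pow, hVel.2 v hv, mul_one, mul_inv_cancel]
  have hΛV0 : Λ ≤ V0 := (closure_le _).2 (by rintro _ ⟨g, hg, v, hv, rfl⟩; exact hZV0 g hg v hv)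
  have hYΛ : Y ≤ normalizer (Λ : Set X) := fun g hg => by
    refine mem_normalizer_fintype fun z hz => ?_
    have hle : Λ ≤ Λ.comap (MulAut.conj g).toMonoidHom := (closure_le _).2 (by
      rintro _ ⟨k, hk, v, hv, rfl⟩
      exact subset_closure ⟨g * k, mul_mem hg hk, v, hv, by simp [mul_assoc]⟩)
    exact hle hz
  have hVΛ : V ≤ Λ := fun v hv => subset_closure ⟨1, one_mem _, v, hv, by group⟩
  have hCΛ : centralizer (Λ : Set X) ≤ U := (centralizer_le hVΛ).trans hCV
  -- abelian subgroups of largest order of `V0`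
  have hMAV : ∀ A, MA V0 A → A ≤ centralizer (V : Set X) := by
    intro A hA
    by_contra hcon
    obtain ⟨A', hA', hA'n, hquad⟩ := exists_quadratic_ma hq2 h.mem.pgroup hVV0
      (hV0U.trans hUV) hVc hA hcon
    exact hA'n fun a ha => hquadU a (hV0U (hA'.1 ha)) fun v hv => hquad a ha v hv
  have hMAΛ : ∀ A, MA V0 A → A ≤ centralizer (Λ : Set X) := by
    intro A hA
    rw [le_centralizer_iff, hΛ, closure_le]
    rintro _ ⟨g, hg, v, hv, rfl⟩
    have h1 : MA (conjBy g⁻¹ V0) (conjBy g⁻¹ A) := ma_conjBy g⁻¹ hA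
    rw [conjBy_eq_iff.2 (inv_mem hg)] at h1
    refine mem_centralizer_iff.2 fun a ha => ?_
    have h2 : Commute v (g⁻¹ * a * g⁻¹⁻¹) :=
      mem_centralizer_iff.1 (hMAV _ h1 (conj_mem_conjBy ha)) v hv
    have h3 := (h2.map (MulAut.conj g).toMonoidHom).eq.symm
    simpa [mul_assoc] using h3
  have hVJ : V ≤ Cfsg.thompsonSubgroupAOf V0 := by
    obtain ⟨A, hA⟩ := exists_ma V0
    refine le_trans (fun v hv => hA.centralizer_le ⟨hVV0 hv, ?_⟩) (le_J hA)
    exact mem_centralizer_iff.2 fun a ha => (mem_centralizer_iff.1 (hMAV A hA ha) v hv).symm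
  -- abelian subgroups of largest order of `S` lie in `V0`
  have hin : ∀ A, MA S A → A ≤ centralizer (Λ : Set X) → A ≤ V0 := by
    intro A hA hAΛ
    set C1 := centralizer (Λ : Set X) ⊓ Y with hC1
    have hYC : Y ≤ normalizer (C1 : Set X) := CfsgLib.Coprime.inf_le_normalizer
      (hYΛ.trans (CfsgLib.Coprime.normalizer_le_normalizer_centralizer _)) le_normalizer
    have hYP : Y ≤ normalizer ((C1 ⊔ V0 : Subgroup X) : Set X) :=
      CfsgLib.Coprime.sup_le_normalizer hYC le_rfl
    have hodd : Odd (Nat.card ↥(C1 ⊔ V0)) := by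
      have hC1odd : Odd (Nat.card C1) :=
        (hU.odd_of_le (inf_le_left.trans hCΛ))
      rw [sup_comm]
      exact ((odd_card_of_isPGroup hq2 h.mem.pgroup).mul hC1odd).of_dvd_nat
        (CfsgLib.Coprime.card_sup_dvd_of_le_normalizer (le_normalizer.trans hYC))
    have h1 := h.inf_eq hodd le_sup_right (sup_le inf_le_right le_normalizer) (hSY.trans hYP) ht htY
      (hYP htY)
    exact fun a ha => h1.le ⟨hA.1 ha, mem_sup_left ⟨hAΛ ha, hSY (hA.1 ha)⟩⟩
  have hSMA : ∀ A, MA S A → A ≤ V0 := by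
    intro A hA
    by_cases hAΛ : A ≤ centralizer (Λ : Set X)
    · exact hin A hA hAΛ
    exfalso
    obtain ⟨A', hA', hA'n, hquad⟩ := exists_quadratic_ma hq2 h.syl.isPGroup (hΛV0.trans hV0S)
      (hSY.trans hYΛ) hΛel.1 hA hAΛ
    haveI : (Λ.subgroupOf Y).Normal := normal_subgroupOf_of_le_normalizer hYΛ
    have hA'Y : A' ≤ Y := hA'.1.trans hSY
    have hΛY : Λ ≤ Y := hΛV0.trans le_normalizer
    obtain ⟨P, hPodd, hAP, s, hs, hsP⟩ :=
      exists_odd_ge_of_quadratic_abelian hq2 h.mem.even (Λ := Λ.subgroupOf Y)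
        ⟨CfsgLib.Fusion.isMulCommutative_subgroupOf hΛel.1,
          fun u hu => Subtype.ext (by simpa using hΛel.2 _ hu)⟩
        ((hU.odd_of_le hCΛ).of_dvd_nat (by
          rw [← card_map_of_injective Y.subtype_injective]
          refine card_dvd_of_le ?_
          rintro _ ⟨y, hy, rfl⟩
          exact mem_centralizer_iff.2 fun v hv =>
            congrArg Subtype.val (mem_centralizer_iff.1 hy ⟨v, hΛY hv⟩ hv)))
        (A := A'.subgroupOf Y) (CfsgLib.Fusion.isMulCommutative_subgroupOf hA'.2.1)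
        (by
          rw [Nat.card_congr (subgroupOfEquivOfLe hA'Y).toEquiv]
          exact odd_card_of_isPGroup hq2 (h.syl.isPGroup.to_le hA'.1))
        (fun a ha v hv => Subtype.ext (by
          simpa [commutatorElement_def] using (hquad _ ha _ hv).eq))
    set P' := P.map Y.subtype ⊔ V0 with hP'
    have hPY : P.map Y.subtype ≤ Y := map_subtype_le P
    have hodd : Odd (Nat.card P') := by
      refine (Odd.mul (by rwa [card_map_of_injective Y.subtype_injective])
        (odd_card_of_isPGroup hq2 h.mem.pgroup)).of_dvd_nat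
        (CfsgLib.Coprime.card_sup_dvd_of_le_normalizer hPY)
    have hA'P' : A' ≤ P' := fun a ha =>
      mem_sup_left ⟨⟨a, hA'Y ha⟩, hAP (show (⟨a, hA'Y ha⟩ : Y) ∈ A'.subgroupOf Y from ha), rfl⟩
    obtain ⟨Q, hQ, hQle⟩ := exists_sylowIn_ge (K := P')
      (h.syl.isPGroup.to_le (sup_le hV0S hA'.1)) (sup_le le_sup_right hA'P')
    have hsN : (s : X) ∈ normalizer (P' : Set X) :=
      CfsgLib.Coprime.sup_le_normalizer (A := zpowers (s : X))
        (zpowers_le.2 (le_normalizer_map Y.subtype ⟨s, hsP, rfl⟩))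
        (zpowers_le.2 s.2) (mem_zpowers _)
    have hQ0 : V0 ≤ Q := le_sup_left.trans hQle
    have hmem : Mem q Q := ⟨hQ.isPGroup,
      even_normalizer_of_frattini hQ hodd (L := zpowers (s : X)) (zpowers_le.2 hsN)
        (by rw [Nat.card_zpowers, orderOf_coe, hs]; exact even_two),
      h.mem.odd.of_dvd_nat (card_dvd_of_le (centralizer_le hQ0))⟩
    have hd : dA Q = dA V0 := le_antisymm (h.d_le Q hmem) (dA_mono hQ0)
    have hJ : Cfsg.thompsonSubgroupAOf V0 = Cfsg.thompsonSubgroupAOf Q :=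
      eq_of_le_of_card_ge (J_mono hQ0 hd.le) (h.j_le Q hmem hd)
    have hA'Q : MA Q A' := ma_of_card (le_sup_right.trans hQle) hA'.2.1 (by
      rw [card_eq_dA hA', hd]; exact dA_mono hV0S)
    refine hA'n ((le_J hA'Q).trans (hJ.ge.trans (J_le hMAΛ)))
  have hdS : dA S = dA V0 := by
    obtain ⟨A, hA⟩ := exists_ma S
    refine le_antisymm ?_ (dA_mono hV0S)
    rw [← card_eq_dA hA]
    exact card_le_dA (hSMA A hA) hA.2.1
  set J := Cfsg.thompsonSubgroupAOf V0 with hJdef
  have hJS : Cfsg.thompsonSubgroupAOf S = J := by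
    refine le_antisymm (J_le fun A hA => le_J (ma_of_card (hSMA A hA) hA.2.1 ?_))
      (J_mono hV0S hdS.le)
    rw [card_eq_dA hA, hdS]
  -- `J` is a largest member
  have hYJ : Y ≤ normalizer (J : Set X) := normalizer_le_J
  have hJmem : Mem q J := ⟨h.mem.pgroup.to_le J_le_self,
    CfsgLib.Invol.even_card_of_invol_mem (hYJ htY) ht,
    hU.odd_of_le ((centralizer_le hVJ).trans hCV)⟩
  have hdJ : dA J = dA V0 := by
    obtain ⟨A, hA⟩ := exists_ma V0
    refine le_antisymm (dA_mono J_le_self) ?_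
    rw [← card_eq_dA hA]
    exact card_le_dA (le_J hA) hA.2.1
  have hJJ : Cfsg.thompsonSubgroupAOf J = J := le_antisymm J_le_self
    (J_le fun A hA => le_J (ma_of_card (le_J hA) hA.2.1 (by rw [card_eq_dA hA, hdJ])))
  have hRS : R ≤ S := by
    by_contra hcon
    obtain ⟨x, hxR, hxN, hxS⟩ := CfsgLib.Invol.exists_mem_normalizer_notMem hR.isPGroup hSR hcon
    have hxJ : x ∈ normalizer (J : Set X) := by rw [← hJS]; exact normalizer_le_J hxN
    have hle : S ≤ R ⊓ normalizer (J : Set X) := le_inf hSR (hSY.trans hYJ)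
    have heq := eq_of_le_of_card_ge hle (h.s_le J hJmem hdJ (by rw [hJJ]) _
      (hR.isPGroup.to_le inf_le_left) inf_le_right)
    exact hxS (heq.ge ⟨hxR, hxJ⟩)
  obtain rfl : S = R := le_antisymm hSR hRS
  by_cases hco : coCore U q = ⊥
  · obtain ⟨hne, hle, hn⟩ := hg.single hco S hRT
    refine hU.not_invol ?_ ht
    rw [← hU.normalizer_eq hne hle hn]
    have h1 := hYJ htY
    rw [← hJS] at h1
    rw [Cfsg.centerThompsonAOf]
    refine CfsgLib.Coprime.inf_le_normalizer (A := zpowers t) (zpowers_le.2 h1)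
      (zpowers_le.2 (CfsgLib.Coprime.normalizer_le_normalizer_centralizer _ h1)) (mem_zpowers t)
  -- the product of the conjugates of `O_q'(U)`
  haveI := hU.solvable
  have hAV0 : az U q ≤ V0 := h.le_of_abelian hq2 hAR isElementaryAbelian_az.1
    (hRU.trans le_normalizer_az)
  set O := coCore U q with hO
  have hcent : ∀ y ∈ Y, conjBy y O ≤ U := by
    intro y hy
    have hAy : az U q ≤ conjBy y U :=
      hAV0.trans ((conjBy_eq_iff.2 hy).ge.trans (conjBy_mono hV0U))
    have hyA : conjBy y (az U q) ≤ U :=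
      ((conjBy_mono hAV0).trans (conjBy_eq_iff.2 hy).le).trans hV0U
    have h1 : conjBy y⁻¹ (az U q) ≤ centralizer (O : Set X) := hg.le_centralizer_coCore hU hAy hyA
      (((conjBy_mono hAV0).trans (conjBy_eq_iff.2 (inv_mem hy)).le).trans hV0U)
    have h2 := conjBy_mono (g := y) h1
    rw [conjBy_conjBy_inv, conjBy_centralizer, le_centralizer_iff] at h2
    exact h2.trans (hU.centralizer_az_le hg.core_ne)
  have hnorm : ∀ y ∈ Y, ∀ y' ∈ Y, conjBy y O ≤ normalizer (conjBy y' O : Set X) := by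
    intro y hy y' hy'
    rw [← conjBy_normalizer]
    have h1 := hcent (y'⁻¹ * y) (mul_mem (inv_mem hy') hy)
    rw [← conjBy_conjBy] at h1
    have h2 := conjBy_mono (g := y') (h1.trans (le_normalizer_coCore (s := q)))
    rwa [conjBy_conjBy_inv] at h2
  have hsup : ∀ s : Finset Y, ∀ y : Y,
      conjBy (y : X) O ≤ normalizer ((s.sup fun z : Y => conjBy (z : X) O : Subgroup X) : Set X) ∧
        ¬ q ∣ Nat.card ↥(s.sup fun z : Y => conjBy (z : X) O) := by
    intro s
    induction s using Finset.induction with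
    | empty =>
      intro y
      rw [Finset.sup_empty, normalizer_eq_top, Subgroup.card_bot]
      exact ⟨le_top, hq.out.not_dvd_one⟩
    | @insert a s has ih =>
      intro y
      rw [Finset.sup_insert]
      refine ⟨CfsgLib.Coprime.sup_le_normalizer (hnorm y y.2 a a.2) (ih y).1, fun hdvd => ?_⟩
      rcases hq.out.dvd_mul.1 (hdvd.trans (CfsgLib.Coprime.card_sup_dvd_of_le_normalizer (ih a).1))
        with h3 | h3
      · rw [card_conjBy] at h3; exact not_dvd_coCore h3
      · exact (ih a).2 h3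
  haveI := Fintype.ofFinite Y
  set P := (Finset.univ.sup fun z : Y => conjBy (z : X) O : Subgroup X) with hP
  have hPU : P ≤ U := Finset.sup_le fun z _ => hcent z z.2
  have hPn : Y ≤ normalizer (P : Set X) := fun y hy => by
    rw [← conjBy_eq_iff]
    refine CfsgLib.Fusion.conjBy_eq_of_le ?_
    rw [conjBy, map_le_iff_le_comap]
    refine Finset.sup_le fun z _ => ?_
    rw [← map_le_iff_le_comap]
    refine le_trans (le_of_eq ?_) (Finset.le_sup (f := fun z : Y => conjBy (z : X) O)
      (Finset.mem_univ ⟨y * z, mul_mem hy z.2⟩))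
    exact conjBy_conjBy y z O
  have hcons : CfsgLib.Invol.PCons q U := fun z hz hzc => by
    have h1 := CfsgLib.Coprime.centralizer_pCore_le (G := U ⧸ Cfsg.pPrimeCore q U) (p := q)
      (CfsgLib.Coprime.pPrimeCore_quotient_eq_bot hq.out) hzc
    obtain ⟨i, hi⟩ := (CfsgLib.Coprime.pCore_isPGroup q : IsPGroup q (Cfsg.pCore q _)) ⟨z, h1⟩
    have h2 : orderOf z ∣ q ^ i := orderOf_dvd_of_pow_eq_one (by simpa using congrArg Subtype.val hi)
    exact orderOf_eq_one_iff.1 (Nat.eq_one_of_dvd_coprimes (hz.pow_right i) dvd_rfl h2)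
  have hPO : P ≤ O := by
    have hcop : (Nat.card (P.subgroupOf U)).Coprime q := by
      rw [Nat.card_congr (subgroupOfEquivOfLe hPU).toEquiv]
      exact ((hq.out.coprime_iff_not_dvd).2 (hsup Finset.univ 1).2).symm
    have h1 := CfsgLib.CFun.le_pPrimeCore_of_sylow_invariant hcons hRT.toSylow hcop (by
      intro r hr
      have hrS : (r : X) ∈ S := by
        rw [← hRT.map_toSylow]; exact mem_map_of_mem _ hr
      refine mem_normalizer_iff.2 fun x => ?_
      simp only [mem_subgroupOf, Subgroup.coe_mul, Subgroup.coe_inv]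
      exact mem_normalizer_iff.1 (hPn (hSY hrS)) x)
    exact fun x hx => ⟨⟨x, hPU hx⟩, h1 hx, rfl⟩
  have hOP : O ≤ P := by
    have h1 := Finset.le_sup (f := fun z : Y => conjBy (z : X) O) (Finset.mem_univ (1 : Y))
    simpa [CfsgLib.Fusion.conjBy_one] using h1
  refine hU.not_invol ?_ ht
  rw [← hU.normalizer_eq hco coCore_le le_normalizer_coCore]
  exact (le_antisymm hPO hOP) ▸ hPn htY

end Contradiction

/-- **Theorem M.** -/
theorem exists_invol_centralizing (hU : MaxOdd U) (hq2 : q ≠ 2) (hg : GoodData U q)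
    (hR : IsSylowIn q R ⊤) (hRU : R ≤ U) {W : Subgroup X} (hW : IsPGroup q W) {v : X}
    (hv : orderOf v = 2) (hvW : v ∈ normalizer (W : Set X)) :
    ∃ t : X, orderOf t = 2 ∧ t ∈ centralizer (W : Set X) := by
  by_contra hcon
  push Not at hcon
  obtain ⟨V0, S, hb⟩ := exists_best (q := q) ⟨W, hW, CfsgLib.Invol.even_card_of_invol_mem hvW hv,
    odd_card_of_no_invol fun t ht hto => hcon t hto ht⟩
  obtain ⟨g, -, hg'⟩ := CfsgLib.Bender.exists_conjBy_le hb.syl.isPGroup le_top hR
  exact not_best hU hq2 hg hR hRU (hb.conjugate g) hg'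

end CfsgLib.Bender.Bad
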