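import Cfsg.Agent.Lib.Bender.Bad.Centralized
import Cfsg.Agent.Lib.Bender.Core.LocalAt
import Cfsg.Agent.Lib.Bender.Core.Lonely

/-!
# An inverted element of a two-point stabilizer has centralizer of odd order

Given the core theorem for strongly embedded subgroups, a non-trivial element of `G_{xy}` inverted by an
involution interchanging `x` and `y` commutes with no involution.
-/

set_option autoImplicit false
set_option linter.style.haveILetI false
set_option linter.unusedSectionVars false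

open Subgroup MulAction
open scoped commutatorElement
open CfsgLib.CFun (core isPGroup_core core_le le_normalizer_core)
open CfsgLib.Coprime (IsSylowIn)
open CfsgLib.Invol (fixed_unique invol_conj invol_smul_smul invol_inv invol_mul_self invol_ne_one)
open CfsgLib.Bender.Core (Ctx)

namespace CfsgLib.Bender.Bad

universe u

/-- The core theorem for strongly embedded subgroups. -/
def CoreThm : Prop :=
  ∀ (G : Type u) [Group G] [Finite G] (H : Subgroup G), Cfsg.IsStronglyEmbedded H →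
    (Cfsg.oddCore H).map H.subtype ≤ Cfsg.oddCore G

variable {G : Type u} [Group G] [Finite G] {H : Subgroup G}

theorem eq_one_of_sq {d : G} (hd : Odd (orderOf d)) (h : d * d = 1) : d = 1 := by
  refine orderOf_eq_one_iff.1 (Nat.eq_one_of_dvd_coprimes (Nat.coprime_two_left.2 hd)
    (orderOf_dvd_of_pow_eq_one (by rw [pow_two, h])) dvd_rfl)

/-- A centralizing and an inverting involution fix a common point, and two involutions commute. -/
theorem exists_common_fixed (hH : Cfsg.IsStronglyEmbedded H) {d i w : G} (hd1 : d ≠ 1)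
    (hd : Odd (orderOf d)) (hi : orderOf i = 2) (hw : orderOf w = 2) (hid : Commute i d)
    (hwd : w * d * w⁻¹ = d⁻¹) : (∃ c : G ⧸ H, i • c = c ∧ w • c = c) ∧ HasPair G := by
  have hne : ∀ {v : G}, Commute v d → v ≠ w := fun {v} hv e => by
    subst e
    refine hd1 (eq_one_of_sq hd (mul_eq_one_iff_eq_inv.2 ?_))
    rw [← hwd, hv.eq, mul_inv_cancel_right]
  have he : Even (orderOf (i * w)) := by
    by_contra ho
    rw [Nat.not_even_iff_odd] at ho
    obtain ⟨e, hel, hew⟩ := CfsgLib.Invol.exists_conj_eq_of_odd hi hw ho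
    set N := normalizer (zpowers d : Set G)
    have hiN : i ∈ N := centralizer_le_normalizer _ (mem_centralizer_iff.2 fun z hz => by
      obtain ⟨k, rfl⟩ := hz
      exact (hid.zpow_right k).eq.symm)
    have hwN : w ∈ N := by
      refine mem_normalizer_fintype fun z hz => ?_
      obtain ⟨k, rfl⟩ := hz
      show w * d ^ k * w⁻¹ ∈ zpowers d
      rw [CfsgLib.Invol.conj_zpow_of_inverts hwd k]
      exact zpow_mem (mem_zpowers d) _
    have heN : e ∈ N := zpowers_le.2 (mul_mem hiN hwN) hel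
    have hiC : i ∈ centralizer (zpowers d : Set G) := mem_centralizer_iff.2 fun z hz => by
      obtain ⟨k, rfl⟩ := hz
      exact (hid.zpow_right k).eq.symm
    have hwC : w ∈ centralizer (zpowers d : Set G) := hew ▸
      (mem_normalizer_iff.1 (CfsgLib.Coprime.normalizer_le_normalizer_centralizer _ heN) i).1 hiC
    exact hne (v := w) ((mem_centralizer_iff.1 hwC d (mem_zpowers d)).symm) rfl
  set h := (i * w) ^ (orderOf (i * w) / 2) with hh
  have hho : orderOf h = 2 := CfsgLib.Invol.orderOf_pow_half he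
  have hci : Commute i h := (CfsgLib.Invol.commute_pow_half (CfsgLib.Invol.invol_conj_mul hi hw) he).symm
  have hcw : Commute w h := (CfsgLib.Invol.commute_pow_half (CfsgLib.Invol.invol_conj_mul' hi hw) he).symm
  obtain ⟨c, hc⟩ := exists_fixed hH hho
  refine ⟨⟨c, mem_stabilizer_iff.1 (centralizer_le_stabilizer hH hho hc
      (mem_centralizer_singleton_iff.2 hci.eq)), mem_stabilizer_iff.1 (centralizer_le_stabilizer hH hho hc
      (mem_centralizer_singleton_iff.2 hcw.eq))⟩, ?_⟩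
  by_cases hhi : h = i
  · exact ⟨i, w, hi, hw, hne hid, hhi ▸ hcw.symm⟩
  · exact ⟨i, h, hi, hho, Ne.symm hhi, hci⟩

theorem normalizer_le_normalizer_core (D : Subgroup G) (q : ℕ) :
    normalizer (D : Set G) ≤ normalizer (core D q : Set G) := by
  haveI := CfsgLib.Coprime.pCore_characteristic (G := D) q
  exact CfsgLib.PGroup.normalizer_le_normalizer_map_char D _

theorem le_core_of_normal {D W : Subgroup G} {q : ℕ} (hW : W ≤ D)
    (hn : D ≤ normalizer (W : Set G)) (hWp : IsPGroup q W) : W ≤ core D q := by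
  haveI : (W.subgroupOf D).Normal := normal_subgroupOf_of_le_normalizer hn
  exact fun x hx => ⟨⟨x, hW hx⟩, CfsgLib.Coprime.le_pCore (N := W.subgroupOf D) hWp.comap_subtype
    (show (⟨x, hW hx⟩ : D) ∈ W.subgroupOf D from hx), rfl⟩

/-- `O_q` is invariant under the normalizer, and so is `az`. -/
theorem normalizer_le_normalizer_az (D : Subgroup G) (q : ℕ) :
    normalizer (D : Set G) ≤ normalizer (az D q : Set G) := by
  intro g hg
  have hgc := normalizer_le_normalizer_core D q hg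
  refine mem_normalizer_fintype fun x hx => ?_
  refine ⟨(mem_normalizer_iff.1 hgc x).1 hx.1, fun y hy => ?_,
    by rw [conj_pow, hx.2.2, mul_one, mul_inv_cancel]⟩
  have h1 := hx.2.1 _ ((mem_normalizer_iff''.1 hgc y).1 hy)
  calc y * (g * x * g⁻¹) = g * (g⁻¹ * y * g * x) * g⁻¹ := by group
    _ = g * (x * (g⁻¹ * y * g)) * g⁻¹ := by rw [h1]
    _ = g * x * g⁻¹ * y := by group

/-- The Sylow subgroups of a transitive odd subgroup of `U` are normalized by no involution. -/
theorem not_normalized {X : Type u} [Group X] [Finite X] {U D : Subgroup X} (hU : MaxOdd U) {q : ℕ}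
    [hq : Fact q.Prime] (hg : GoodData U q) (hDU : D ≤ U) (htr : InvTrans D) {Q : Subgroup X}
    (hQ : IsSylowIn q Q D) {v : X} (hv : orderOf v = 2) : v ∉ normalizer (Q : Set X) := by
  intro hvQ
  set C := centralizer ({v} : Set X) with hC
  set E := U ⊓ CfsgLib.Coprime.conjBy v U with hE
  have hCE : C ⊓ E = C ⊓ U := by
    refine le_antisymm (inf_le_inf_left _ inf_le_left) (le_inf inf_le_left (le_inf inf_le_right ?_))
    rintro y ⟨hyC, hyM⟩
    refine ⟨y, hyM, ?_⟩
    show v * y * v⁻¹ = y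
    rw [← mem_centralizer_singleton_iff.1 hyC, mul_inv_cancel_right]
  have hvE : v ∈ normalizer (E : Set X) := by
    rw [← CfsgLib.Coprime.conjBy_eq_self_iff, hE, CfsgLib.Coprime.conjBy,
      Subgroup.map_inf _ _ _ (MulAut.conj v).injective]
    change CfsgLib.Coprime.conjBy v U ⊓ CfsgLib.Coprime.conjBy v (CfsgLib.Coprime.conjBy v U) = _
    rw [CfsgLib.Coprime.conjBy_conjBy, invol_mul_self hv, CfsgLib.Coprime.conjBy_one, inf_comm]
  have hEodd : Odd (Nat.card E) := hU.odd_of_le inf_le_left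
  have hQE : Q ≤ E := le_inf (hQ.1.trans hDU)
    ((CfsgLib.Coprime.conjBy_eq_self_iff.2 hvQ).ge.trans (map_mono (hQ.1.trans hDU)))
  obtain ⟨P0, hP0, hQP0, hvP0⟩ := CfsgLib.Coprime.le_invariant_sylow (zpowers_le.2 hvE)
    (coprime_zpowers hv hEodd) (Or.inl (isSolvable_zpowers v)) hQE hQ.isPGroup (zpowers_le.2 hvQ)
  replace hvP0 := hvP0 (mem_zpowers v)
  have hP0U : IsSylowIn q P0 U := by
    refine ⟨hP0.1.trans inf_le_left,
      le_antisymm (isPGroup_card_le hP0.isPGroup (hP0.1.trans inf_le_left)) ?_⟩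
    rw [hP0.2]
    change rPart q (Nat.card U) ≤ rPart q (Nat.card E)
    rw [rPart_card_eq q C U, rPart_card_eq q C E, hCE]
    refine Nat.mul_le_mul_right _ ?_
    calc rPart q (C.relIndex U) = rPart q (C.relIndex D) := by
          rw [invTrans_relIndex hU.trans hv, invTrans_relIndex htr hv]
      _ ≤ C.relIndex Q := rPart_relIndex_le hQ
      _ ≤ C.relIndex P0 := relIndex_le_of_le hQP0
      _ = rPart q (C.relIndex E) := rPart_relIndex_eq hv hEodd hvE hP0 hvP0
  exact hU.not_invol (hg.sylow_le P0 hP0U hvP0) hv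

theorem pPrimeCore_eq_bot_of_eq {K : Subgroup G} (h : Cfsg.pPrimeCore 2 H = ⊥) (e : K = H) :
    Cfsg.pPrimeCore 2 K = ⊥ := by
  subst e; exact h

/-- A centralizing involution of an inverted element of a two-point stabilizer is impossible. -/
theorem false_of_bad (hcore : CoreThm.{u}) (hH : Cfsg.IsStronglyEmbedded H) (hnc : H.normalCore = ⊥)
    {u : G} (hu : orderOf u = 2) (huH : u ∉ H) {z : G}
    (hz : z ∈ H ⊓ H.map (MulAut.conj u).toMonoidHom) (hz1 : z ≠ 1) (hinv : u * z * u⁻¹ = z⁻¹)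
    {t : G} (ht : orderOf t = 2) (htz : Commute t z) : False := by
  classical
  set x : G ⧸ H := ((1 : G) : G ⧸ H) with hx
  set y : G ⧸ H := u • x with hy
  have hxH : stabilizer G x = H := MulAction.stabilizer_quotient H
  have huy : u • y = x := invol_smul_smul hu x
  have hxy : x ≠ y := fun e => huH (hxH.le (mem_stabilizer_iff.2 e.symm))
  set D := pairStab x y with hD
  have hzD : z ∈ D := by
    obtain ⟨hzH, k, hk, hkz⟩ := hz
    refine ⟨hxH.ge hzH, mem_stabilizer_iff.2 ?_⟩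
    have hkx : k • x = x := mem_stabilizer_iff.1 (hxH.ge hk)
    rw [← hkz]
    show (u * k * u⁻¹) • u • x = u • x
    rw [smul_smul, inv_mul_cancel_right, mul_smul, hkx]
  have hzodd : Odd (orderOf z) :=
    (odd_pairStab hH hxy).of_dvd_nat (Subgroup.orderOf_dvd_natCard D hzD)
  -- the point fixed by `u`
  obtain ⟨⟨c, htc, huc⟩, hpair⟩ := exists_common_fixed hH hz1 hzodd ht hu htz hinv
  have hcx : c ≠ x := fun e => hxy (by subst e; exact huc.symm.trans hy.symm)
  have hcy : c ≠ y := fun e => hxy (by subst e; exact huy.symm.trans huc)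
  have hCz : centralizer ({z} : Set G) ≤ stabilizer G c := by
    intro g hg
    have hgz : Commute g z := mem_centralizer_singleton_iff.1 hg
    obtain ⟨⟨c', h1, h2⟩, -⟩ := exists_common_fixed hH hz1 hzodd (invol_conj ht g) hu
      ((hgz.mul_left htz).mul_left hgz.inv_left) hinv
    obtain rfl := fixed_unique hH hu h2 huc
    exact mem_stabilizer_iff.2 (fixed_unique hH (invol_conj ht g) (CfsgLib.Invol.conj_fixes.2 htc) h1)
  have hzc : z ∈ stabilizer G c := hCz (mem_centralizer_singleton_iff.2 rfl)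
  have ctx : Ctx H := ⟨hH, hpair, hnc, fun L _ M hM => hcore L M hM⟩
  -- `O(G_x) = 1`
  have hOG : Cfsg.oddCore G = ⊥ := by
    haveI : (Cfsg.oddCore G).Normal := Subgroup.sSup_normal _ fun _ h => h.1
    obtain ⟨p, s, hp, hs, hne, hc'⟩ := hpair
    obtain ⟨a, ha, -⟩ := exists_fixed_of_pair hH (Core.odd_card_oddCore G) hp hs hne hc'
      (by rw [normalizer_eq_top]; exact mem_top p) (by rw [normalizer_eq_top]; exact mem_top s)
    by_contra hne'
    exact ctx.normalizer_ne_top_of_fixed ha hne' (normalizer_eq_top _)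
  have hOH : Cfsg.pPrimeCore 2 H = ⊥ :=
    (map_eq_bot_iff_of_injective _ H.subtype_injective).1 (le_bot_iff.1 ((hcore G H hH).trans hOG.le))
  -- `O₂(G_c) = 1`
  have h2c : Cfsg.pCore 2 (stabilizer G c) = ⊥ := by
    haveI : Fact (Nat.Prime 2) := ⟨Nat.prime_two⟩
    by_contra hne
    obtain ⟨k, hk⟩ := IsPGroup.iff_card.1
      (CfsgLib.Coprime.pCore_isPGroup (G := stabilizer G c) 2)
    have hk0 : k ≠ 0 := fun e => hne (card_eq_one.1 (by rw [hk, e, pow_zero]))
    obtain ⟨s, hsO, hs⟩ := CfsgLib.Invol.exists_invol_mem (H := Cfsg.pCore 2 (stabilizer G c))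
      (by rw [hk]; exact Nat.even_pow.2 ⟨even_two, hk0⟩)
    obtain ⟨v, -, hvc⟩ := exists_swapper hH hcx
    obtain ⟨d, -, hdc, -, hds⟩ := transitive_fixing hH ⊤ (u := v) (a := c) (mem_top _)
      (by rw [hvc]; exact hcx.symm) (s := (s : G)) (t := u) (by rwa [orderOf_coe]) (mem_top _)
      (mem_stabilizer_iff.1 s.2) hu (mem_top _) huc
    haveI := CfsgLib.Coprime.pCore_normal' (G := stabilizer G c) 2
    have huO : (⟨u, mem_stabilizer_iff.2 huc⟩ : stabilizer G c) ∈ Cfsg.pCore 2 _ := by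
      have h1 := Normal.conj_mem inferInstance s hsO (⟨d, mem_stabilizer_iff.2 hdc⟩ : stabilizer G c)
      rwa [show (⟨u, mem_stabilizer_iff.2 huc⟩ : stabilizer G c) =
        (⟨d, mem_stabilizer_iff.2 hdc⟩ : stabilizer G c) * s * (⟨d, _⟩ : stabilizer G c)⁻¹ from
          Subtype.ext hds.symm]
    set u' : stabilizer G c := ⟨u, mem_stabilizer_iff.2 huc⟩
    set z' : stabilizer G c := ⟨z, hzc⟩
    have hzz : z' * u' * z'⁻¹ * u'⁻¹ = z' * z' := Subtype.ext (by
      show z * u * z⁻¹ * u⁻¹ = z * z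
      rw [show z * u * z⁻¹ * u⁻¹ = z * (u * z⁻¹ * u⁻¹) by group,
        show u * z⁻¹ * u⁻¹ = (u * z * u⁻¹)⁻¹ by group, hinv, inv_inv])
    have h1 : z' * z' ∈ Cfsg.pCore 2 (stabilizer G c) :=
      hzz ▸ mul_mem (Normal.conj_mem inferInstance u' huO z') (inv_mem huO)
    obtain ⟨i, hi⟩ := CfsgLib.Coprime.pCore_isPGroup (G := stabilizer G c) 2 ⟨_, h1⟩
    have h2 : (z * z) ^ 2 ^ i = 1 := congrArg (fun a : Cfsg.pCore 2 (stabilizer G c) => (a : G)) hi
    have h3 : orderOf (z * z) = 1 := Nat.eq_one_of_dvd_coprimes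
      ((Nat.coprime_two_left.2 hzodd).pow_left i) (orderOf_dvd_of_pow_eq_one h2)
      (by rw [← pow_two]; exact orderOf_pow_dvd 2)
    exact hz1 (eq_one_of_sq hzodd (orderOf_eq_one_iff.1 h3))
  have h2x : Cfsg.pCore 2 (stabilizer G x) = ⊥ := by
    obtain ⟨g, hg⟩ := MulAction.exists_smul_eq G c x
    rw [← CfsgLib.Coprime.map_pCore_equiv (stabilizerEquivStabilizer hg.symm) 2, h2c, Subgroup.map_bot]
  -- the point stabilizer
  set X := stabilizer G x with hX
  have hDX : D ≤ X := inf_le_left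
  set D' := D.subgroupOf X with hD'
  have htrD : InvTrans D' := fun a b ha hb => by
    obtain ⟨d, -, hdx, hdy, hd⟩ := transitive_fixing hH ⊤ (u := u) (a := x) (mem_top _) hxy.symm
      (s := (a : G)) (t := (b : G)) (by rwa [orderOf_coe]) (mem_top _) (mem_stabilizer_iff.1 a.2)
      (by rwa [orderOf_coe]) (mem_top _) (mem_stabilizer_iff.1 b.2)
    exact ⟨⟨d, mem_stabilizer_iff.2 hdx⟩, ⟨mem_stabilizer_iff.2 hdx, mem_stabilizer_iff.2 hdy⟩,
      Subtype.ext hd⟩
  have hD'odd : Odd (Nat.card D') := by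
    rw [hD', Nat.card_congr (subgroupOfEquivOfLe hDX).toEquiv]; exact odd_pairStab hH hxy
  have hpairX : HasPair X := by
    obtain ⟨p, s, hp, hs, hne, hc'⟩ := hpair
    obtain ⟨a, ha⟩ := exists_fixed hH hp
    have hsa : s • a = a := mem_stabilizer_iff.1 (centralizer_le_stabilizer hH hp ha
      (mem_centralizer_singleton_iff.2 hc'.symm.eq))
    obtain ⟨g, hg⟩ := MulAction.exists_smul_eq G a x
    refine ⟨⟨g * p * g⁻¹, mem_stabilizer_iff.2 ?_⟩, ⟨g * s * g⁻¹, mem_stabilizer_iff.2 ?_⟩, ?_, ?_,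
      fun e => hne ?_, Subtype.ext ?_⟩
    · rw [← hg]; exact CfsgLib.Invol.conj_fixes.2 ha
    · rw [← hg]; exact CfsgLib.Invol.conj_fixes.2 hsa
    · rw [← orderOf_coe]; exact invol_conj hp g
    · rw [← orderOf_coe]; exact invol_conj hs g
    · simpa using congrArg Subtype.val e
    · simpa using (hc'.map (MulAut.conj g).toMonoidHom).eq
  obtain ⟨U, hDU, hUmax⟩ := exists_maximal_ge_of_wellFoundedGT
    (fun M : Subgroup X => Odd (Nat.card M)) D' hD'odd
  have hUtr : InvTrans U := fun a b ha hb => by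
    obtain ⟨d, hd, he⟩ := htrD a b ha hb
    exact ⟨d, hDU hd, he⟩
  have hU : MaxOdd U := ⟨pPrimeCore_eq_bot_of_eq hOH hxH, h2x, hpairX,
    fun Y hY => not_invTrans_of_stronglyEmbedded hY hpairX hUmax.prop hUtr, hUmax.prop,
    fun M' hle hodd => le_antisymm (hUmax.le_of_ge hodd hle) hle, hUtr⟩
  obtain ⟨q, hq, hq2, hg⟩ := exists_goodData hU
  haveI := Fact.mk hq
  obtain ⟨T, hT, -⟩ := exists_sylowIn_ge (K := U) (P := ⊥) (IsPGroup.of_bot (p := q)) bot_le
  have hTtop := isSylowIn_top_of_normalizer_le hT (hg.sylow_le T hT)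
  have hgood : GoodPrime q x y := by
    refine ⟨fun v R hv hvx hR hvR => ?_, fun v Q hv hvx hQ hvQ => ?_⟩
    · have hR' : IsSylowIn q (R.subgroupOf X) ⊤ := ⟨le_top, by
        rw [Nat.card_congr (subgroupOfEquivOfLe hR.1).toEquiv, card_top, hR.2]⟩
      obtain ⟨g, -, hgT⟩ := hR'.exists_conj hTtop
      have hv' : (⟨v, mem_stabilizer_iff.2 hvx⟩ : X) ∈ normalizer (R.subgroupOf X : Set X) :=
        mem_normalizer_iff.2 fun a => by simpa [mem_subgroupOf] using mem_normalizer_iff.1 hvR a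
      exact hU.not_invol (hg.sylow_le T hT (hgT ▸ conj_mem_normalizer_of_mem hv'))
        (invol_conj (by rwa [← orderOf_coe]) g)
    · have hQ' : IsSylowIn q (Q.subgroupOf X) D' := ⟨fun a ha => hQ.1 ha, by
        rw [Nat.card_congr (subgroupOfEquivOfLe (hQ.1.trans hDX)).toEquiv, hD',
          Nat.card_congr (subgroupOfEquivOfLe hDX).toEquiv, hQ.2]⟩
      exact not_normalized hU hg hDU htrD hQ' (v := (⟨v, mem_stabilizer_iff.2 hvx⟩ : X))
        (by rwa [← orderOf_coe])
        (mem_normalizer_iff.2 fun a => by simpa [mem_subgroupOf] using mem_normalizer_iff.1 hvQ a)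
  obtain ⟨R, hR, -⟩ := exists_sylowIn_ge (K := D) (P := ⊥) (IsPGroup.of_bot (p := q)) bot_le
  obtain ⟨hRX, hR2⟩ := hgood.pair_full hH hq2 hxy hxy hR
  set R' := R.subgroupOf X with hR'
  have hR'top : IsSylowIn q R' ⊤ := ⟨le_top, by
    rw [hR', Nat.card_congr (subgroupOfEquivOfLe hRX.1).toEquiv, card_top, hRX.2]⟩
  have hR'D : R' ≤ D' := fun a ha => hR.1 ha
  -- a `q`-group of `D` with a third fixed point is centralized by an involution of `G_x`
  have fix_two : ∀ W : Subgroup G, IsPGroup q W → W ≤ D →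
      (∀ v : G, orderOf v = 2 → v • x = x → v ∈ centralizer (W : Set G) → False) →
      ∀ a ∈ fixSet W H, a = x ∨ a = y := by
    intro W hW hWD hno a ha
    by_contra hcon
    push Not at hcon
    obtain ⟨Q, hQ, hWQ, hxQ, -, -, hinvQ⟩ := ctx.exists_local_at hq2 hW (b := x)
      (hWD.trans inf_le_left) ((Set.two_lt_ncard_iff (Set.toFinite _)).2
        ⟨x, y, a, hWD.trans inf_le_left, hWD.trans inf_le_right, ha, hxy, hcon.1.symm, hcon.2.symm⟩)
    obtain ⟨v, hvQ, hv, hvx⟩ := hinvQ x hxQ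
    obtain ⟨s, hs, hsQ⟩ := exists_invol_centralizing hU hq2 hg hR'top (hR'D.trans hDU)
      (W := Q.subgroupOf X) (hQ.of_equiv (subgroupOfEquivOfLe hxQ).symm)
      (v := (⟨v, mem_stabilizer_iff.2 hvx⟩ : X)) (by rwa [← orderOf_coe])
      (mem_normalizer_iff.2 fun b => by simpa [mem_subgroupOf] using mem_normalizer_iff.1 hvQ b)
    exact hno (s : G) (by rwa [orderOf_coe]) (mem_stabilizer_iff.1 s.2) (mem_centralizer_iff.2
      fun k hk => congrArg Subtype.val
        (mem_centralizer_iff.1 hsQ ⟨k, hxQ (hWQ hk)⟩ (hWQ hk)))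
  -- `U = D`
  have hUD : U = D' := by
    refine le_antisymm (fun g hgU => ?_) hDU
    have hAD : az U q ≤ D' := by
      have hRU : IsSylowIn q R' U := sylow_of_top hU hq2 hg hR'top (hR'D.trans hDU)
      have h1 := map_mono (f := U.subtype) (CfsgLib.Coprime.pCore_le_sylow (p := q) hRU.toSylow)
      rw [hRU.map_toSylow] at h1
      exact (az_le_core.trans h1).trans hR'D
    set A := (az U q).map X.subtype with hA
    have hAD' : A ≤ D := by
      rintro _ ⟨a, ha, rfl⟩
      exact hAD ha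
    have h2 := fix_two A (isPGroup_az.map _) hAD' (fun v hv hvx hvA => hU.not_invol
      (hU.centralizer_az_le hg.core_ne (show (⟨v, mem_stabilizer_iff.2 hvx⟩ : X) ∈
        centralizer (az U q : Set X) from mem_centralizer_iff.2 fun a ha =>
          Subtype.ext (mem_centralizer_iff.1 hvA _ ⟨a, ha, rfl⟩))) (by rwa [← orderOf_coe]))
      ((g : G) • y) (smul_mem_fixSet (le_normalizer_map X.subtype ⟨g, le_normalizer_az hgU, rfl⟩)
        (hAD'.trans inf_le_right))
    rcases h2 with h2 | h2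
    · exact absurd (smul_left_cancel (g : G) (h2.trans (mem_stabilizer_iff.1 g.2).symm)) hxy.symm
    · exact ⟨g.2, mem_stabilizer_iff.2 h2⟩
  -- a minimal subgroup of `Ω₁Z(O_q(D))` normalized by `D` and `u`
  have hcoreD : core D q ≠ ⊥ := by
    intro e
    refine hg.core_ne ((map_eq_bot_iff_of_injective _ X.subtype_injective).1 (le_bot_iff.1 (e ▸ ?_)))
    refine le_core_of_normal ?_ ?_ (isPGroup_core.map _)
    · rintro _ ⟨a, ha, rfl⟩
      exact (hUD ▸ core_le ha : a ∈ D')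
    · intro d hd
      exact le_normalizer_map X.subtype
        ⟨⟨d, hDX hd⟩, le_normalizer_core (hUD.ge (show (⟨d, hDX hd⟩ : X) ∈ D' from hd)), rfl⟩
  obtain ⟨V, ⟨hVA, hVne, hDV, huV⟩, hVmin⟩ := (Set.toFinite
    {W : Subgroup G | W ≤ az D q ∧ W ≠ ⊥ ∧ D ≤ normalizer (W : Set G) ∧
      u ∈ normalizer (W : Set G)}).exists_minimal
      ⟨az D q, le_rfl, az_ne_bot hcoreD, le_normalizer_az,
        normalizer_le_normalizer_az D q (mem_normalizer_pairStab hu rfl)⟩
  have hVD : V ≤ D := hVA.trans az_le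
  have hVq : IsPGroup q V := isPGroup_az.to_le hVA
  have hVel : Cfsg.IsElementaryAbelian q V := ⟨le_centralizer_iff_isMulCommutative.1 fun a ha =>
    mem_centralizer_iff.2 fun b hb => (az_commute (hVA hb) (hVA ha)).eq, fun v hv => (hVA hv).2.2⟩
  have hVfix : ∀ a ∈ fixSet V H, a = x ∨ a = y := fix_two V hVq hVD fun v hv hvx hvV => by
    refine hU.not_invol (hU.centralizer_le (W := V.subgroupOf X) (fun e => hVne ?_)
      (fun a ha => hUD.ge (hVD ha)) ?_ (show (⟨v, mem_stabilizer_iff.2 hvx⟩ : X) ∈ _ from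
        mem_centralizer_iff.2 fun a ha => Subtype.ext (mem_centralizer_iff.1 hvV _ ha)))
      (by rwa [← orderOf_coe])
    · rw [← map_subgroupOf_eq_of_le (hVD.trans hDX), e, Subgroup.map_bot]
    · intro a ha
      have := hDV (hUD.le ha : a ∈ D')
      exact mem_normalizer_iff.2 fun b => by simpa [mem_subgroupOf] using mem_normalizer_iff.1 this b
  have hVc : ∀ a ∈ V, ∀ b ∈ V, Commute a b := fun a ha b hb => az_commute (hVA ha) (hVA hb)
  set V0 := V ⊓ stabilizer G c with hV0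
  have huc' : u ∈ stabilizer G c := mem_stabilizer_iff.2 huc
  have hu2 : u * u = 1 := invol_mul_self hu
  -- `u` centralizes `V0`
  have hV0u : ∀ v ∈ V0, Commute u v := by
    intro v hv
    set v1 := v * (u * v⁻¹ * u⁻¹) with hv1
    have hv1V : v1 ∈ V0 := mem_inf.2 ⟨mul_mem hv.1 ((mem_normalizer_iff.1 huV _).1 (inv_mem hv.1)),
      mul_mem (mem_inf.1 hv).2 (mul_mem (mul_mem huc' (inv_mem (mem_inf.1 hv).2)) (inv_mem huc'))⟩
    have hinv1 : u * v1 * u⁻¹ = v1⁻¹ := by
      have h1 : u * (u * v⁻¹ * u⁻¹) * u⁻¹ = v⁻¹ := by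
        rw [show u * (u * v⁻¹ * u⁻¹) * u⁻¹ = (u * u) * v⁻¹ * (u * u)⁻¹ by group, hu2]; group
      calc u * v1 * u⁻¹ = (u * v * u⁻¹) * (u * (u * v⁻¹ * u⁻¹) * u⁻¹) := by rw [hv1]; group
        _ = (u * v * u⁻¹) * v⁻¹ := by rw [h1]
        _ = v1⁻¹ := by rw [hv1]; group
    have hv11 : v1 = 1 := by
      by_contra hne
      have hodd : Odd (orderOf v1) := (odd_pairStab hH hxy).of_dvd_nat
        (Subgroup.orderOf_dvd_natCard D (hVD hv1V.1))
      rcases fix_two (zpowers v1) (hVq.to_le (zpowers_le.2 hv1V.1)) (zpowers_le.2 (hVD hv1V.1))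
        (fun s hs hsx hsC => by
          obtain ⟨⟨c', h1, h2⟩, -⟩ := exists_common_fixed hH hne hodd hs hu
            (mem_centralizer_iff.1 hsC v1 (mem_zpowers v1)).symm hinv1
          obtain rfl := fixed_unique hH hu h2 huc
          exact hcx (fixed_unique hH hs h1 hsx))
        c (zpowers_le.2 hv1V.2) with h1 | h1
      exacts [hcx h1, hcy h1]
    rw [hv1, mul_eq_one_iff_eq_inv] at hv11
    have : u * v * u⁻¹ = v := by
      calc u * v * u⁻¹ = (u * v⁻¹ * u⁻¹)⁻¹ := by group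
        _ = v := hv11.symm
    exact mul_inv_eq_iff_eq_mul.1 this
  -- `z` centralizes `V0`
  have hzV : z ∈ normalizer (V : Set G) := hDV hzD
  have hzV0 : ∀ v ∈ V0, Commute z v := by
    intro v hv
    have h1 := hV0u _ (show z * v * z⁻¹ ∈ V0 from
      mem_inf.2 ⟨(mem_normalizer_iff.1 hzV v).1 hv.1, mul_mem (mul_mem hzc (mem_inf.1 hv).2) (inv_mem hzc)⟩)
    have h2 : z⁻¹ * v * z = z * v * z⁻¹ := by
      calc z⁻¹ * v * z = (u * z * u⁻¹) * (u * v * u⁻¹) * (u * z * u⁻¹)⁻¹ := by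
            rw [(hV0u v hv).eq, mul_inv_cancel_right, hinv, inv_inv]
        _ = u * (z * v * z⁻¹) * u⁻¹ := by group
        _ = z * v * z⁻¹ := by rw [h1.eq, mul_inv_cancel_right]
    have h3 : Commute (z ^ 2) v := by
      show z ^ 2 * v = v * z ^ 2
      calc z ^ 2 * v = z * (z * v * z⁻¹) * z := by rw [pow_two]; group
        _ = z * (z⁻¹ * v * z) * z := by rw [h2]
        _ = v * z ^ 2 := by rw [pow_two]; group
    obtain ⟨k, hk⟩ := hzodd
    have e : (z ^ 2) ^ (k + 1) = z := by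
      rw [← pow_mul, show 2 * (k + 1) = (2 * k + 1) + 1 by ring, pow_succ, ← hk, pow_orderOf_eq_one,
        one_mul]
    exact e ▸ h3.pow_left (k + 1)
  -- `[V, z] ≤ V0`
  have hCu : ∀ p ∈ V, Commute u p → p ∈ V0 := fun p hp hup => ⟨hp,
    centralizer_le_stabilizer hH hu huc (mem_centralizer_singleton_iff.2 hup.eq.symm)⟩
  have hp : ∀ w ∈ V, w * (u * w * u⁻¹) ∈ V0 := fun w hw => by
    have hw' : u * w * u⁻¹ ∈ V := (mem_normalizer_iff.1 huV w).1 hw
    refine hCu _ (mul_mem hw hw') (mul_inv_eq_iff_eq_mul.1 ?_)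
    calc u * (w * (u * w * u⁻¹)) * u⁻¹ = (u * w * u⁻¹) * ((u * u) * w * (u * u)⁻¹) := by group
      _ = (u * w * u⁻¹) * w := by rw [hu2]; group
      _ = w * (u * w * u⁻¹) := (hVc _ hw' _ hw).eq
  have hsq : ∀ w ∈ V, z ^ 2 * w * (z ^ 2)⁻¹ * w⁻¹ ∈ V0 := by
    intro w hw
    have hw1 : z * w * z⁻¹ ∈ V := (mem_normalizer_iff.1 hzV w).1 hw
    have hw2 : z⁻¹ * w * z ∈ V := (mem_normalizer_iff''.1 hzV w).1 hw
    set p := w * (u * w * u⁻¹) with hpdef
    have hpV0 : p ∈ V0 := hp w hw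
    have h3 := mul_mem (hp _ hw1) (inv_mem hpV0)
    have e1 : u * (z * w * z⁻¹) * u⁻¹ = (z⁻¹ * w * z)⁻¹ * p := by
      calc u * (z * w * z⁻¹) * u⁻¹ = (u * z * u⁻¹) * (u * w * u⁻¹) * (u * z * u⁻¹)⁻¹ := by group
        _ = z⁻¹ * (w⁻¹ * p) * z := by rw [hinv, inv_inv, hpdef, inv_mul_cancel_left]
        _ = (z⁻¹ * w * z)⁻¹ * (z⁻¹ * p * z) := by group
        _ = _ := by
          rw [show z⁻¹ * p * z = p by
            rw [((hzV0 p hpV0).inv_left).eq, inv_mul_cancel_right]]
    have h5 : (z * w * z⁻¹) * (z⁻¹ * w * z)⁻¹ ∈ V0 := by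
      rw [e1] at h3
      simpa [mul_assoc] using h3
    have h6 : z * ((z * w * z⁻¹) * (z⁻¹ * w * z)⁻¹) * z⁻¹ =
        z * w * z⁻¹ * (z⁻¹ * w * z)⁻¹ := by
      rw [(hzV0 _ h5).eq, mul_inv_cancel_right]
    rw [show z ^ 2 * w * (z ^ 2)⁻¹ * w⁻¹ = z * ((z * w * z⁻¹) * (z⁻¹ * w * z)⁻¹) * z⁻¹ by
      rw [pow_two]; group, h6]
    exact h5
  have hquad : ∀ w ∈ V, Commute ⁅w, z⁆ z := by
    have hpow : ∀ n : ℕ, ∀ w ∈ V, (z ^ 2) ^ n * w * ((z ^ 2) ^ n)⁻¹ * w⁻¹ ∈ V0 := by
      intro n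
      induction n with
      | zero => intro w _; simp [one_mem]
      | succ n ih =>
        intro w hw
        have hw1 : z ^ 2 * w * (z ^ 2)⁻¹ ∈ V :=
          (mem_normalizer_iff.1 (pow_mem hzV 2) w).1 hw
        rw [pow_succ, show (z ^ 2) ^ n * z ^ 2 * w * ((z ^ 2) ^ n * z ^ 2)⁻¹ * w⁻¹ =
          ((z ^ 2) ^ n * (z ^ 2 * w * (z ^ 2)⁻¹) * ((z ^ 2) ^ n)⁻¹ * (z ^ 2 * w * (z ^ 2)⁻¹)⁻¹) *
            (z ^ 2 * w * (z ^ 2)⁻¹ * w⁻¹) by group]
        exact mul_mem (ih _ hw1) (hsq w hw)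
    intro w hw
    obtain ⟨k, hk⟩ := hzodd
    have e : (z ^ 2) ^ (k + 1) = z := by
      rw [← pow_mul, show 2 * (k + 1) = (2 * k + 1) + 1 by ring, pow_succ, ← hk, pow_orderOf_eq_one,
        one_mul]
    have h1 := hpow (k + 1) w hw
    rw [e] at h1
    have h2 : ⁅w, z⁆ ∈ V0 := by
      have := inv_mem h1
      rwa [show (z * w * z⁻¹ * w⁻¹)⁻¹ = ⁅w, z⁆ by rw [commutatorElement_def]; group] at this
    exact (hzV0 _ h2).symm
  have hzC : z ∈ centralizer (V : Set G) := mem_centralizer_of_quadratic hq2 (odd_pairStab hH hxy)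
    hVD hDV hVel (fun W hW hWne hn => le_antisymm hW (hVmin ⟨hW.trans hVA, hWne,
      (le_inf le_normalizer hDV).trans hn, hn ⟨mem_normalizer_pairStab hu rfl, huV⟩⟩ hW)) hzD hquad
  rcases hVfix c (fun v hv => hCz (mem_centralizer_singleton_iff.2
    (mem_centralizer_iff.1 hzC v hv))) with h1 | h1
  exacts [hcx h1, hcy h1]

end CfsgLib.Bender.Bad
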