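import Cfsg.Agent.Lib.Bender.Bad.Replacement
import Cfsg.Agent.Lib.Bender.Good

/-!
# `q`-subgroups with normalizer of even and centralizer of odd order

`Best q V0 S`: `V0` is such a subgroup with `(d, |J|, |N|_q, |V0|)` lexicographically largest, and `S`
is a Sylow `q`-subgroup of its normalizer.
-/

set_option autoImplicit false
set_option linter.style.haveILetI false
set_option linter.unusedSectionVars false

open Subgroup
open CfsgLib.PushUp (MA exists_ma le_J J_le J_le_self)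
open CfsgLib.Coprime (IsSylowIn)
open CfsgLib.Fusion (conjBy mem_conjBy conjBy_mono card_conjBy conjBy_conjBy conjBy_conjBy_inv
  conjBy_inv_conjBy conjBy_eq_iff conjBy_normalizer conjBy_centralizer)

namespace CfsgLib.Bender.Bad

universe u

variable {X : Type u} [Group X] [Finite X] {q : ℕ} [hq : Fact q.Prime]

/-- A `q`-subgroup with even normalizer and odd centralizer. -/
structure Mem (q : ℕ) (W : Subgroup X) : Prop where
  pgroup : IsPGroup q W
  even : Even (Nat.card (normalizer (W : Set X)))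
  odd : Odd (Nat.card (centralizer (W : Set X)))

/-- A largest member and a Sylow subgroup of its normalizer. -/
structure Best (q : ℕ) (V0 S : Subgroup X) : Prop where
  mem : Mem q V0
  syl : IsSylowIn q S (normalizer (V0 : Set X))
  d_le : ∀ W : Subgroup X, Mem q W → dA W ≤ dA V0
  j_le : ∀ W : Subgroup X, Mem q W → dA W = dA V0 →
    Nat.card (Cfsg.thompsonSubgroupAOf W) ≤ Nat.card (Cfsg.thompsonSubgroupAOf V0)
  s_le : ∀ W : Subgroup X, Mem q W → dA W = dA V0 →
    Nat.card (Cfsg.thompsonSubgroupAOf W) = Nat.card (Cfsg.thompsonSubgroupAOf V0) →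
    ∀ T : Subgroup X, IsPGroup q T → T ≤ normalizer (W : Set X) → Nat.card T ≤ Nat.card S
  w_le : ∀ W : Subgroup X, Mem q W → dA W = dA V0 →
    Nat.card (Cfsg.thompsonSubgroupAOf W) = Nat.card (Cfsg.thompsonSubgroupAOf V0) →
    S ≤ normalizer (W : Set X) → Nat.card W ≤ Nat.card V0

theorem exists_max_of {p : Subgroup X → Prop} (h : ∃ W, p W) (f : Subgroup X → ℕ) :
    ∃ W, p W ∧ ∀ W', p W' → f W' ≤ f W := by
  obtain ⟨W, hW, hmax⟩ := Set.exists_max_image {W : Subgroup X | p W} f (Set.toFinite _) h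
  exact ⟨W, hW, hmax⟩

theorem exists_lex {p : Subgroup X → Prop} (h : ∃ W, p W) (f₁ f₂ f₃ f₄ : Subgroup X → ℕ) :
    ∃ W, p W ∧ (∀ W', p W' → f₁ W' ≤ f₁ W) ∧ (∀ W', p W' → f₁ W' = f₁ W → f₂ W' ≤ f₂ W) ∧
      (∀ W', p W' → f₁ W' = f₁ W → f₂ W' = f₂ W → f₃ W' ≤ f₃ W) ∧
      ∀ W', p W' → f₁ W' = f₁ W → f₂ W' = f₂ W → f₃ W' = f₃ W → f₄ W' ≤ f₄ W := by
  obtain ⟨W1, h1, m1⟩ := exists_max_of h f₁
  obtain ⟨W2, h2, m2⟩ := exists_max_of (p := fun W => p W ∧ f₁ W = f₁ W1) ⟨W1, h1, rfl⟩ f₂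
  obtain ⟨W3, h3, m3⟩ := exists_max_of (p := fun W => p W ∧ f₁ W = f₁ W1 ∧ f₂ W = f₂ W2)
    ⟨W2, h2.1, h2.2, rfl⟩ f₃
  obtain ⟨W4, h4, m4⟩ := exists_max_of
    (p := fun W => p W ∧ f₁ W = f₁ W1 ∧ f₂ W = f₂ W2 ∧ f₃ W = f₃ W3)
    ⟨W3, h3.1, h3.2.1, h3.2.2, rfl⟩ f₄
  obtain ⟨h4p, e1, e2, e3⟩ := h4
  exact ⟨W4, h4p, fun W hW => (m1 W hW).trans_eq e1.symm,
    fun W hW a1 => (m2 W ⟨hW, a1.trans e1⟩).trans_eq e2.symm,
    fun W hW a1 a2 => (m3 W ⟨hW, a1.trans e1, a2.trans e2⟩).trans_eq e3.symm,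
    fun W hW a1 a2 a3 => m4 W ⟨hW, a1.trans e1, a2.trans e2, a3.trans e3⟩⟩

theorem exists_best (h : ∃ W : Subgroup X, Mem q W) : ∃ V0 S : Subgroup X, Best q V0 S := by
  obtain ⟨W4, h4, hd, hj, hs, hw⟩ := exists_lex h dA
    (fun W => Nat.card (Cfsg.thompsonSubgroupAOf W))
    (fun W => rPart q (Nat.card (normalizer (W : Set X)))) (fun W => Nat.card W)
  obtain ⟨S, hS, -⟩ := exists_sylowIn_ge (K := normalizer (W4 : Set X))
    (IsPGroup.of_bot (p := q)) bot_le
  have hScard : Nat.card S = rPart q (Nat.card (normalizer (W4 : Set X))) := hS.2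
  refine ⟨W4, S, h4, hS, hd, hj, fun W hW e ej T hT hTN => ?_,
    fun W hW e ej hSW => hw W hW e ej ?_⟩
  · rw [hScard]
    exact (isPGroup_card_le hT hTN).trans (hs W hW e ej)
  · refine le_antisymm (hs W hW e ej) ?_
    rw [← hScard]
    exact isPGroup_card_le hS.isPGroup hSW

theorem Mem.conjugate {W : Subgroup X} (h : Mem q W) (g : X) : Mem q (conjBy g W) := by
  refine ⟨h.pgroup.map _, ?_, ?_⟩
  · rw [← conjBy_normalizer, card_conjBy]; exact h.even
  · rw [← conjBy_centralizer, card_conjBy]; exact h.odd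

theorem Best.conjugate {V0 S : Subgroup X} (h : Best q V0 S) (g : X) :
    Best q (conjBy g V0) (conjBy g S) := by
  refine ⟨h.mem.conjugate g, ⟨(conjBy_mono h.syl.1).trans (conjBy_normalizer g V0).le, ?_⟩,
    fun W hW => by rw [dA_conjBy]; exact h.d_le W hW, fun W hW e => ?_,
    fun W hW e ej T hT hTN => ?_, fun W hW e ej hSW => ?_⟩
  · rw [← conjBy_normalizer, card_conjBy, card_conjBy, h.syl.2]
  · rw [J_conjBy, card_conjBy]
    exact h.j_le W hW (e.trans (dA_conjBy g V0))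
  · rw [card_conjBy]
    exact h.s_le W hW (e.trans (dA_conjBy g V0))
      (ej.trans (by rw [J_conjBy, card_conjBy])) T hT hTN
  · rw [card_conjBy, ← card_conjBy g⁻¹ W]
    refine h.w_le _ (hW.conjugate g⁻¹) ?_ ?_ ?_
    · rw [dA_conjBy, e, dA_conjBy]
    · rw [J_conjBy, card_conjBy, ej, J_conjBy, card_conjBy]
    · have h1 := conjBy_mono (g := g⁻¹) hSW
      rwa [conjBy_inv_conjBy, conjBy_normalizer] at h1

/-- Frattini: a Sylow subgroup of an odd group normalized by a group of even order has even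
normalizer. -/
theorem even_normalizer_of_frattini {P L Q : Subgroup X} (hQ : IsSylowIn q Q P)
    (hP : Odd (Nat.card P)) (hL : L ≤ normalizer (P : Set X)) (he : Even (Nat.card L)) :
    Even (Nat.card (normalizer (Q : Set X))) := by
  by_contra hodd
  rw [Nat.not_even_iff_odd] at hodd
  set N := normalizer (Q : Set X) ⊓ normalizer (P : Set X) with hN
  have hLle : L ≤ N ⊔ P := by
    intro l hl
    have hlP : conjBy l P = P := conjBy_eq_iff.2 (hL hl)
    have h1 : IsSylowIn q (conjBy l Q) P :=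
      ⟨(conjBy_mono hQ.1).trans hlP.le, by rw [card_conjBy, hQ.2]⟩
    obtain ⟨p, hp, hpQ⟩ := h1.exists_conj hQ
    have hpl : p * l ∈ N := by
      refine ⟨?_, mul_mem (le_normalizer hp) (hL hl)⟩
      show p * l ∈ normalizer (Q : Set X)
      rw [← conjBy_eq_iff, ← conjBy_conjBy]
      exact hpQ
    rw [show l = p⁻¹ * (p * l) by group]
    exact mul_mem (mem_sup_right (inv_mem hp)) (mem_sup_left hpl)
  have h2 : Odd (Nat.card ↥(N ⊔ P)) :=
    ((hodd.of_dvd_nat (card_dvd_of_le inf_le_left)).mul hP).of_dvd_nat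
      (CfsgLib.Coprime.card_sup_dvd_of_le_normalizer inf_le_right)
  exact Nat.not_even_iff_odd.2 (h2.of_dvd_nat (card_dvd_of_le hLle)) he

namespace Best

variable {V0 S : Subgroup X} (h : Best q V0 S)
include h

theorem le_syl : V0 ≤ S := by
  have h1 : IsPGroup q ↥(V0 ⊔ S) := h.mem.pgroup.to_sup_of_normal_left' h.syl.isPGroup h.syl.1
  have h2 : S = V0 ⊔ S := eq_of_le_of_card_ge le_sup_right (by
    rw [h.syl.2]; exact isPGroup_card_le h1 (sup_le le_normalizer h.syl.1))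
  rw [h2]
  exact le_sup_left

theorem exists_invol : ∃ t ∈ normalizer (V0 : Set X), orderOf t = 2 :=
  CfsgLib.Invol.exists_invol_mem h.mem.even

/-- An odd group above `V0` in `N(V0)` normalized by `S` and by an involution of `N(V0)` meets `S` in
`V0`. -/
theorem inf_eq {P : Subgroup X} (hP : Odd (Nat.card P)) (hV0P : V0 ≤ P)
    (hPY : P ≤ normalizer (V0 : Set X)) (hSP : S ≤ normalizer (P : Set X)) {t : X}
    (ht : orderOf t = 2) (htY : t ∈ normalizer (V0 : Set X)) (htP : t ∈ normalizer (P : Set X)) :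
    S ⊓ P = V0 := by
  set L := normalizer (P : Set X) ⊓ normalizer (V0 : Set X) with hLdef
  have hSL : S ≤ L := le_inf hSP h.syl.1
  have hPL : P ≤ L := le_inf le_normalizer hPY
  have hSsyl : IsSylowIn q S L := by
    refine ⟨hSL, le_antisymm (isPGroup_card_le h.syl.isPGroup hSL) ?_⟩
    rw [h.syl.2]
    exact Nat.pow_le_pow_right hq.out.pos ((Nat.factorization_le_iff_dvd Nat.card_pos.ne'
      Nat.card_pos.ne').2 (card_dvd_of_le inf_le_right) q)
  obtain ⟨Q, hQ, -⟩ := exists_sylowIn_ge (K := P) (IsPGroup.of_bot (p := q)) bot_le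
  obtain ⟨k, hk, hkS⟩ := CfsgLib.Bender.exists_conjBy_le hQ.isPGroup (hQ.1.trans hPL) hSsyl
  have hkP : conjBy k Q ≤ P := (conjBy_mono hQ.1).trans (conjBy_eq_iff.2 hk.1).le
  have hSP' : IsSylowIn q (S ⊓ P) P := by
    refine ⟨inf_le_right, le_antisymm
      (isPGroup_card_le (h.syl.isPGroup.to_le inf_le_left) inf_le_right) ?_⟩
    rw [← hQ.2, ← card_conjBy k Q]
    exact card_le_of_le (le_inf hkS hkP)
  have hQ0 : V0 ≤ S ⊓ P := le_inf h.le_syl hV0P
  have hmem : Mem q (S ⊓ P) := ⟨h.syl.isPGroup.to_le inf_le_left,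
    even_normalizer_of_frattini hSP' hP (inf_le_left : L ≤ _)
      (CfsgLib.Invol.even_card_of_invol_mem (t := t) ⟨htP, htY⟩ ht),
    h.mem.odd.of_dvd_nat (card_dvd_of_le (centralizer_le hQ0))⟩
  have hd : dA (S ⊓ P) = dA V0 := le_antisymm (h.d_le _ hmem) (dA_mono hQ0)
  have hj : Nat.card (Cfsg.thompsonSubgroupAOf (S ⊓ P)) = Nat.card (Cfsg.thompsonSubgroupAOf V0) :=
    le_antisymm (h.j_le _ hmem hd) (card_le_of_le (J_mono hQ0 hd.le))
  refine (eq_of_le_of_card_ge hQ0 (h.w_le _ hmem hd hj ?_)).symm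
  exact CfsgLib.Coprime.inf_le_normalizer le_normalizer hSP

end Best

end CfsgLib.Bender.Bad
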