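import Cfsg.Agent.Lib.PushUp.Offender
import Cfsg.Agent.Lib.Fusion.MaxFamily
import Cfsg.Agent.Lib.Fusion.Sylow

/-!
# The order of the largest abelian subgroups and Glauberman's quadratic replacement
-/

set_option autoImplicit false
set_option linter.style.haveILetI false
set_option linter.unusedSectionVars false

open Subgroup
open scoped commutatorElement
open CfsgLib.PushUp (MA exists_ma le_J J_le J_le_self)
open CfsgLib.Fusion (conjBy mem_conjBy conjBy_mono card_conjBy conjBy_conjBy_inv conjBy_inv_conjBy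
  conj_mem_conjBy)

namespace CfsgLib.Bender.Bad

universe u

variable {X : Type u} [Group X] [Finite X]

/-- The order of the abelian subgroups of largest order. -/
noncomputable def dA (W : Subgroup X) : ℕ := Nat.card (exists_ma W).choose

variable {V W S A : Subgroup X}

theorem card_eq_dA (h : MA W A) : Nat.card A = dA W := by
  have h' := (exists_ma W).choose_spec
  exact le_antisymm (h'.2.2 A h.1 h.2.1) (h.2.2 _ h'.1 h'.2.1)

theorem card_le_dA (hA : A ≤ W) (hc : IsMulCommutative A) : Nat.card A ≤ dA W :=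
  (exists_ma W).choose_spec.2.2 A hA hc

theorem dA_mono (h : V ≤ W) : dA V ≤ dA W := by
  obtain ⟨A, hA⟩ := exists_ma V
  rw [← card_eq_dA hA]
  exact card_le_dA (hA.1.trans h) hA.2.1

theorem ma_of_card (hA : A ≤ W) (hc : IsMulCommutative A) (h : dA W ≤ Nat.card A) : MA W A :=
  ⟨hA, hc, fun _ hB hBc => (card_le_dA hB hBc).trans h⟩

theorem ma_of_dA_eq (h : V ≤ W) (hd : dA W ≤ dA V) (hA : MA V A) : MA W A :=
  ma_of_card (hA.1.trans h) hA.2.1 (by rwa [card_eq_dA hA])

theorem J_mono (h : V ≤ W) (hd : dA W ≤ dA V) :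
    Cfsg.thompsonSubgroupAOf V ≤ Cfsg.thompsonSubgroupAOf W :=
  J_le fun _ hA => le_J (ma_of_dA_eq h hd hA)

theorem isMulCommutative_conjBy (g : X) (hc : IsMulCommutative A) :
    IsMulCommutative (conjBy g A) := CfsgLib.Fusion.isMulCommutative_map _ hc

theorem ma_conjBy (g : X) (hA : MA W A) : MA (conjBy g W) (conjBy g A) := by
  refine ⟨conjBy_mono hA.1, isMulCommutative_conjBy g hA.2.1, fun B hB hBc => ?_⟩
  rw [card_conjBy, ← card_conjBy g⁻¹ B]
  refine hA.2.2 _ ?_ (isMulCommutative_conjBy g⁻¹ hBc)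
  exact (conjBy_mono hB).trans (conjBy_inv_conjBy g W).le

theorem dA_conjBy (g : X) (W : Subgroup X) : dA (conjBy g W) = dA W := by
  obtain ⟨A, hA⟩ := exists_ma W
  rw [← card_eq_dA (ma_conjBy g hA), card_conjBy, card_eq_dA hA]

theorem J_conjBy (g : X) (W : Subgroup X) :
    Cfsg.thompsonSubgroupAOf (conjBy g W) = conjBy g (Cfsg.thompsonSubgroupAOf W) := by
  have key : ∀ (g : X) (W : Subgroup X),
      conjBy g (Cfsg.thompsonSubgroupAOf W) ≤ Cfsg.thompsonSubgroupAOf (conjBy g W) := fun g W => by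
    rw [CfsgLib.Fusion.conjBy, map_le_iff_le_comap]
    refine J_le fun A hA => ?_
    rw [← map_le_iff_le_comap]
    exact le_J (ma_conjBy g hA)
  refine le_antisymm ?_ (key g W)
  have h := key g⁻¹ (conjBy g W)
  rw [conjBy_inv_conjBy] at h
  exact (conjBy_conjBy_inv g _).ge.trans (conjBy_mono h)

variable {q : ℕ} [Fact q.Prime]

/-- **Glauberman's replacement**: some largest abelian subgroup not centralizing `B` is quadratic on
it. -/
theorem exists_quadratic_ma (hq2 : q ≠ 2) (hS : IsPGroup q S) {B : Subgroup X} (hBS : B ≤ S)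
    (hSB : S ≤ normalizer (B : Set X)) (hBc : IsMulCommutative B) (hA : MA S A)
    (hAB : ¬ A ≤ centralizer (B : Set X)) :
    ∃ A' : Subgroup X, MA S A' ∧ ¬ A' ≤ centralizer (B : Set X) ∧
      ∀ a ∈ A', ∀ v ∈ B, Commute ⁅v, a⁆ a := by
  haveI : (B.subgroupOf S).Normal := normal_subgroupOf_of_le_normalizer hSB
  have hBc' : IsMulCommutative (B.subgroupOf S) := CfsgLib.Fusion.isMulCommutative_subgroupOf hBc
  haveI : (⊤ : Subgroup S).Normal := inferInstance
  obtain ⟨A', ⟨-, hA'c, hA'max⟩, -, hBA', hn⟩ := CfsgLib.Fusion.maxAb_replacement hS hq2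
    (⊤ : Subgroup S) (B := B.subgroupOf S) ⟨A.subgroupOf S,
      ⟨le_top, CfsgLib.Fusion.isMulCommutative_subgroupOf hA.2.1, fun C _ hCc => by
        rw [Nat.card_congr (subgroupOfEquivOfLe hA.1).toEquiv,
          ← card_map_of_injective S.subtype_injective]
        exact hA.2.2 _ (map_subtype_le C) (CfsgLib.Fusion.isMulCommutative_map _ hCc)⟩,
      by
        rw [commutator_eq_bot_iff_le_centralizer.2
          (Subgroup.le_centralizer_iff_isMulCommutative.2 hBc')]
        exact bot_le,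
      fun hle => hAB fun a ha => mem_centralizer_iff.2 fun v hv => congrArg Subtype.val
        (hA.2.1.is_comm.comm
          (⟨v, show v ∈ A from hle (show (⟨v, hBS hv⟩ : S) ∈ B.subgroupOf S from hv)⟩ : A) ⟨a, ha⟩)⟩
  have hMA : MA S (A'.map S.subtype) := by
    refine ⟨map_subtype_le _, CfsgLib.Fusion.isMulCommutative_map _ hA'c, fun C hC hCc => ?_⟩
    rw [card_map_of_injective S.subtype_injective, ← Nat.card_congr (subgroupOfEquivOfLe hC).toEquiv]
    exact hA'max _ le_top (CfsgLib.Fusion.isMulCommutative_subgroupOf hCc)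
  refine ⟨_, hMA, fun hle => hBA' fun b hb => ?_, ?_⟩
  · obtain ⟨y, hy, hyx⟩ := hMA.centralizer_le ⟨b.2, mem_centralizer_iff.2 fun z hz =>
      (mem_centralizer_iff.1 (hle hz) (b : X) hb).symm⟩
    rwa [← S.subtype_injective hyx]
  · rintro _ ⟨a, ha, rfl⟩ v hv
    have h1 : ⁅(⟨v, hBS hv⟩ : S), a⁆ ∈ A' := by
      rw [commutatorElement_def]
      exact mul_mem ((mem_normalizer_iff.1 (hn (show (⟨v, hBS hv⟩ : S) ∈ B.subgroupOf S from hv)) a).1 ha)
        (inv_mem ha)
    exact congrArg (fun z : A' => ((z : S) : X)) (hA'c.is_comm.comm ⟨_, h1⟩ ⟨a, ha⟩)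

end CfsgLib.Bender.Bad
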